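import Mathlib
import Cfsg.Agent.Lib.CoOneType.Finite

/-!
Linear algebra on the quadratic space of dimension eight over the field of two elements: involutory
isometries, their commutator space, and two small facts on elementary groups of isometries fixing a totally
singular subspace.
-/

set_option autoImplicit false
set_option linter.style.longLine false
set_option linter.unusedSectionVars false
set_option synthInstance.maxSize 8000
set_option synthInstance.maxHeartbeats 1000000
set_option maxHeartbeats 1000000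

namespace CfsgLib.CoOneUnique.Fus

open CfsgLib.CoOneType

theorem card_V : Nat.card V = 256 := by simp [Nat.card_eq_fintype_card, V, W, P2]

theorem eq_zero_of_B {v : V} (h : ∀ w, B w v = 0) : v = 0 := by
  by_contra hv
  obtain ⟨w, hw⟩ := exists_B_one v hv
  rw [h w] at hw
  exact zero_ne_one hw

theorem smul_mem_sub (U : AddSubgroup V) (t : ZMod 2) {v : V} (hv : v ∈ U) : t • v ∈ U := by
  rcases zcases t with rfl | rfl
  · rw [zero_smul]; exact zero_mem U
  · rw [one_smul]; exact hv

/-- The bilinear form, linearly. -/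
noncomputable def bForm : LinearMap.BilinForm (ZMod 2) V :=
  LinearMap.mk₂ (ZMod 2) B B_add_left
    (fun c a b => by rcases zcases c with rfl | rfl <;> simp [B_zero_left])
    B_add_right
    (fun c a b => by rcases zcases c with rfl | rfl <;> simp [B_zero_right])

theorem bForm_apply (a b : V) : bForm a b = B a b := rfl

/-- The vectors orthogonal to a subgroup. -/
def perp (U : AddSubgroup V) : AddSubgroup V where
  carrier := {v | ∀ u ∈ U, B v u = 0}
  zero_mem' := fun u _ => B_zero_left u
  add_mem' := fun {a b} ha hb u hu => by rw [B_add_left, ha u hu, hb u hu, add_zero]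
  neg_mem' := fun {a} ha => by rwa [negV]

theorem mem_perp {U : AddSubgroup V} {v : V} : v ∈ perp U ↔ ∀ u ∈ U, B v u = 0 := Iff.rfl

theorem perp_anti {U W : AddSubgroup V} (h : U ≤ W) : perp W ≤ perp U := fun _ hv u hu => hv u (h hu)

theorem le_perp_perp (U : AddSubgroup V) : U ≤ perp (perp U) := fun u hu v hv => by
  rw [B_comm]; exact hv u hu

theorem card_perp (U : AddSubgroup V) : Nat.card U * Nat.card (perp U) = 256 := by
  classical
  set U' : Submodule (ZMod 2) V := AddSubgroup.toZModSubmodule 2 U with hU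
  have hn : bForm.Nondegenerate := by
    refine ⟨fun v h => eq_zero_of_B fun w => ?_, fun v h => eq_zero_of_B fun w => ?_⟩
    · rw [B_comm]; exact h w
    · exact h w
  have hr : bForm.IsRefl := fun a b h => by rw [bForm_apply, B_comm]; exact h
  have hd := LinearMap.BilinForm.finrank_orthogonal hn U'
  have hle := Submodule.finrank_le U'
  have e : Nat.card (perp U) = Nat.card (bForm.orthogonal U') :=
    Nat.card_congr (Equiv.subtypeEquivRight fun v => by
      rw [LinearMap.BilinForm.mem_orthogonal_iff]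
      refine ⟨fun h u hu => ?_, fun h u hu => ?_⟩
      · show bForm u v = 0
        rw [bForm_apply, B_comm]; exact h u hu
      · rw [B_comm]; exact h u hu)
  have e1 : Nat.card U = Nat.card U' := rfl
  rw [e, e1, Module.natCard_eq_pow_finrank (K := ZMod 2) (V := U'),
    Module.natCard_eq_pow_finrank (K := ZMod 2) (V := bForm.orthogonal U'),
    Nat.card_zmod, ← pow_add]
  have h8 : Module.finrank (ZMod 2) V = 8 := by
    have h := Module.natCard_eq_pow_finrank (K := ZMod 2) (V := V)
    rw [card_V, Nat.card_zmod] at h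
    exact (Nat.pow_right_injective le_rfl (show 2 ^ 8 = 2 ^ Module.finrank (ZMod 2) V by rw [← h])).symm
  rw [hd, h8]
  have : Module.finrank (ZMod 2) U' + (8 - Module.finrank (ZMod 2) U') = 8 := by omega
  rw [this]; norm_num

theorem perp_perp (U : AddSubgroup V) : perp (perp U) = U := by
  refine (AddSubgroup.eq_of_le_of_card_ge (le_perp_perp U) ?_).symm
  have h1 := card_perp U
  have h2 := card_perp (perp U)
  have hp : 0 < Nat.card (perp U) := Nat.card_pos
  nlinarith

/-- Totally singular subgroups. -/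
def TS (U : AddSubgroup V) : Prop := ∀ u ∈ U, qV 0 u = 0

theorem TS.le_perp {U : AddSubgroup V} (h : TS U) : U ≤ perp U := fun a ha b hb => by
  have := h (a + b) (add_mem ha hb)
  rwa [qV_add, h a ha, h b hb, zero_add, zero_add] at this

theorem TS.mono {U W : AddSubgroup V} (h : TS W) (hle : U ≤ W) : TS U := fun u hu => h u (hle hu)

theorem TS.card_le {U : AddSubgroup V} (h : TS U) : Nat.card U ≤ 16 := by
  have h1 := card_perp U
  have h2 := AddSubgroup.card_le_of_le h.le_perp
  nlinarith

theorem card_cases (U : AddSubgroup V) : ∃ k ≤ 8, Nat.card U = 2 ^ k := by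
  have h : Nat.card U ∣ 2 ^ 8 := by
    have := U.card_addSubgroup_dvd_card
    rwa [card_V] at this
  exact (Nat.dvd_prime_pow Nat.prime_two).1 h

theorem add_mem_of_card_two {U W : AddSubgroup V} (hle : U ≤ W) (h : Nat.card W ≤ 2 * Nat.card U) {a b : V}
    (ha : a ∈ W) (hb : b ∈ W) (ha' : a ∉ U) (hb' : b ∉ U) : a + b ∈ U := by
  have hlt : U.relIndex W ≤ 2 := by
    by_contra hc
    push Not at hc
    have h1 := AddSubgroup.relIndex_mul_relIndex ⊥ U W bot_le hle
    rw [AddSubgroup.relIndex_bot_left, AddSubgroup.relIndex_bot_left] at h1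
    have hp : 0 < Nat.card U := Nat.card_pos
    nlinarith
  have hne1 : U.relIndex W ≠ 1 := fun e => ha' (AddSubgroup.relIndex_eq_one.1 e ha)
  have hne0 : U.relIndex W ≠ 0 := (U.addSubgroupOf W).index_ne_zero_of_finite
  have h2 : (U.addSubgroupOf W).index = 2 := by
    show U.relIndex W = 2
    omega
  exact (AddSubgroup.add_mem_iff_of_index_two h2 (a := ⟨a, ha⟩) (b := ⟨b, hb⟩)).2
    (iff_of_false ha' hb')

/-! ### Involutory isometries -/

/-- Involutory isometries. -/
structure Invol (T : V →+ V) : Prop where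
  q : ∀ v, qV 0 (T v) = qV 0 v
  inv : ∀ v, T (T v) = v

/-- The displacement. -/
def mv (T : V →+ V) : V →+ V := T + AddMonoidHom.id V

theorem mv_apply (T : V →+ V) (v : V) : mv T v = T v + v := rfl

theorem T_eq (T : V →+ V) (v : V) : T v = v + mv T v := by
  rw [mv_apply, add_left_comm, addV, add_zero]

/-- The commutator space. -/
def LT (T : V →+ V) : AddSubgroup V := (mv T).range

/-- The fixed space. -/
def FT (T : V →+ V) : AddSubgroup V := (mv T).ker

theorem mem_FT {T : V →+ V} {v : V} : v ∈ FT T ↔ T v = v := by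
  refine ⟨fun h => eqV h, fun h => ?_⟩
  show T v + v = 0
  rw [h, addV]

theorem mv_mem_LT (T : V →+ V) (v : V) : mv T v ∈ LT T := ⟨v, rfl⟩

theorem isometry_B {T : V →+ V} (hq : ∀ v, qV 0 (T v) = qV 0 v) (a b : V) : B (T a) (T b) = B a b := by
  have h := hq (a + b)
  rw [map_add, qV_add, qV_add, hq, hq] at h
  exact add_left_cancel h

theorem card_LT_FT (T : V →+ V) : Nat.card (LT T) * Nat.card (FT T) = 256 := by
  rw [← card_V, AddSubgroup.card_eq_card_quotient_mul_card_addSubgroup (FT T)]
  exact congrArg (· * Nat.card (FT T))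
    (Nat.card_congr (QuotientAddGroup.quotientKerEquivRange (mv T)).toEquiv).symm

namespace Invol

variable {T : V →+ V} (h : Invol T)
include h

theorem adj (v w : V) : B (mv T v) w = B v (mv T w) := by
  rw [mv_apply, mv_apply, B_add_left, B_add_right]
  have := isometry_B h.q v (T w)
  rw [h.inv] at this
  rw [this]

theorem FT_eq : FT T = perp (LT T) := by
  refine le_antisymm (fun v hv => ?_) fun v hv => eq_zero_of_B fun w => ?_
  · rintro _ ⟨w, rfl⟩
    rw [← h.adj, show mv T v = 0 from hv, B_zero_left]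
  · rw [B_comm, h.adj]
    exact hv _ (mv_mem_LT T w)

theorem LT_le_FT : LT T ≤ FT T := by
  rintro _ ⟨v, rfl⟩
  rw [mem_FT, mv_apply, map_add, h.inv, add_comm]

theorem q_mv (v : V) : qV 0 (mv T v) = B v (mv T v) := by
  have e := h.q v
  rw [T_eq, qV_add] at e
  have : qV 0 (mv T v) + B v (mv T v) = 0 := by linear_combination e
  exact eq_of_add _ _ this

theorem self_orth {v : V} (hq : qV 0 (mv T v) = 0) : B v (mv T v) = 0 := by rw [← h.q_mv, hq]

theorem LT_ne_bot (hne : ∃ v, T v ≠ v) : Nat.card (LT T) ≠ 1 := fun hc => by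
  obtain ⟨v, hv⟩ := hne
  refine hv (mem_FT.1 ?_)
  exact (AddSubgroup.mem_bot).1 ((AddSubgroup.eq_bot_of_card_eq _ hc).le (mv_mem_LT T v))

/-- An alternating form on three dimensions has a radical. -/
theorem exists_radical {U : AddSubgroup V} (hU : U ≤ LT T) (hts : TS U) (hc : Nat.card U = 8) :
    ∃ v, mv T v ∈ U ∧ mv T v ≠ 0 ∧ v ∈ perp U := by
  classical
  have big : ∀ s : Finset V, s.card < 8 → ∃ u ∈ U, u ∉ s := fun s hs => by
    by_contra hh
    push Not at hh
    have := Finset.card_le_card (s := (U : Set V).toFinset) (t := s) fun x hx => hh x (Set.mem_toFinset.1 hx)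
    rw [Set.toFinset_card, ← Nat.card_eq_fintype_card] at this
    simp only [SetLike.coe_sort_coe] at this
    omega
  obtain ⟨u1, hu1, h1⟩ := big {0} (by simp)
  simp only [Finset.mem_singleton] at h1
  obtain ⟨u2, hu2, h2⟩ := big {0, u1} (by have := Finset.card_le_two (a := (0 : V)) (b := u1); omega)
  simp only [Finset.mem_insert, Finset.mem_singleton, not_or] at h2
  obtain ⟨u3, hu3, h3⟩ := big {0, u1, u2, u1 + u2} (by
    have := Finset.card_le_four (a := (0 : V)) (b := u1) (c := u2) (d := u1 + u2); omega)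
  simp only [Finset.mem_insert, Finset.mem_singleton, not_or] at h3
  -- the span of the three is everything
  let f : ZMod 2 × ZMod 2 × ZMod 2 → ↥U := fun c =>
    ⟨c.1 • u1 + c.2.1 • u2 + c.2.2 • u3,
      add_mem (add_mem (smul_mem_sub U _ hu1) (smul_mem_sub U _ hu2)) (smul_mem_sub U _ hu3)⟩
  have indep : ∀ c : ZMod 2 × ZMod 2 × ZMod 2, c.1 • u1 + c.2.1 • u2 + c.2.2 • u3 = 0 → c = 0 := by
    rintro ⟨a, b, c⟩ hz
    rcases zcases a with rfl | rfl <;> rcases zcases b with rfl | rfl <;> rcases zcases c with rfl | rfl <;>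
      simp at hz
    all_goals first
      | rfl
      | exact absurd hz h1
      | exact absurd hz h2.1
      | exact absurd hz h3.1
      | exact absurd (eqV hz) (fun e => h2.2 e.symm)
      | exact absurd (eqV hz) (fun e => h3.2.1 e.symm)
      | exact absurd (eqV hz) (fun e => h3.2.2.1 e.symm)
      | exact absurd (eqV hz) (fun e => h3.2.2.2 e.symm)
  have finj : Function.Injective f := by
    intro x y e
    have e' := congrArg Subtype.val e
    simp only [f] at e'
    have := indep (x + y) (by
      simp only [Prod.fst_add, Prod.snd_add, add_smul]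
      calc _ = (x.1 • u1 + x.2.1 • u2 + x.2.2 • u3) + (y.1 • u1 + y.2.1 • u2 + y.2.2 • u3) := by abel
        _ = 0 := by rw [e', addV])
    have hadd : ∀ a b : ZMod 2 × ZMod 2 × ZMod 2, a + b = 0 → a = b := by decide
    exact hadd _ _ this
  have fsur : Function.Surjective f :=
    ((Nat.bijective_iff_injective_and_card f).2 ⟨finj, by rw [hc]; simp⟩).2
  obtain ⟨v1, e1⟩ := hU hu1
  obtain ⟨v2, e2⟩ := hU hu2
  obtain ⟨v3, e3⟩ := hU hu3
  have self : ∀ v, mv T v ∈ U → B v (mv T v) = 0 := fun v hv => h.self_orth (hts _ hv)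
  have hs1 := self v1 (by rw [e1]; exact hu1)
  have hs2 := self v2 (by rw [e2]; exact hu2)
  have hs3 := self v3 (by rw [e3]; exact hu3)
  rw [e1] at hs1
  rw [e2] at hs2
  rw [e3] at hs3
  have s12 : B v1 u2 = B v2 u1 := by rw [← e2, ← h.adj, e1, B_comm]
  have s13 : B v1 u3 = B v3 u1 := by rw [← e3, ← h.adj, e1, B_comm]
  have s23 : B v2 u3 = B v3 u2 := by rw [← e3, ← h.adj, e2, B_comm]
  have key : ∀ x y w : ZMod 2, ∃ a b c : ZMod 2, ((a, b, c) : ZMod 2 × ZMod 2 × ZMod 2) ≠ 0 ∧
      b * x + c * y = 0 ∧ a * x + c * w = 0 ∧ a * y + b * w = 0 := by decide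
  obtain ⟨a, b, c, hne, k1, k2, k3⟩ := key (B v2 u1) (B v3 u1) (B v3 u2)
  refine ⟨a • v1 + b • v2 + c • v3, ?_⟩
  have himg : mv T (a • v1 + b • v2 + c • v3) = a • u1 + b • u2 + c • u3 := by
    have hs : ∀ (t : ZMod 2) (x : V), mv T (t • x) = t • mv T x := fun t x => by
      rcases zcases t with rfl | rfl <;> simp
    rw [map_add, map_add, hs, hs, hs, e1, e2, e3]
  refine ⟨himg ▸ (f (a, b, c)).2, himg ▸ fun hz => hne (indep (a, b, c) hz), fun u hu => ?_⟩
  obtain ⟨⟨x, y, w⟩, hxy⟩ := fsur ⟨u, hu⟩
  have hu' : u = x • u1 + y • u2 + w • u3 := (congrArg Subtype.val hxy).symm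
  have bs : ∀ (t : ZMod 2) (p q : V), B (t • p) q = t * B p q ∧ B p (t • q) = t * B p q := fun t p q => by
    rcases zcases t with rfl | rfl <;> simp [B_zero_left, B_zero_right]
  rw [hu']
  simp only [B_add_left, B_add_right, (bs _ _ _).1, (bs _ _ _).2, hs1, hs2, hs3, s12, s13, s23]
  linear_combination x * k1 + y * k2 + w * k3

/-- A totally singular commutator space has order four or sixteen. -/
theorem card_LT (hts : TS (LT T)) (hne : ∃ v, T v ≠ v) :
    Nat.card (LT T) = 4 ∨ Nat.card (LT T) = 16 := by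
  obtain ⟨k, -, hk⟩ := card_cases (LT T)
  have h16 := hts.card_le
  have h1 := h.LT_ne_bot hne
  have h2 : Nat.card (LT T) ≠ 2 := by
    intro h2
    obtain ⟨v, hv⟩ := hne
    have hm : mv T v ≠ 0 := fun e => hv (mem_FT.1 e)
    refine hm (eq_zero_of_B fun w => ?_)
    by_cases hw : mv T w = 0
    · rw [← h.adj, hw, B_zero_left]
    · have hd := add_mem_of_card_two (U := ⊥) (W := LT T) bot_le (by rw [h2, AddSubgroup.card_bot])
        (mv_mem_LT T v) (mv_mem_LT T w) (fun e => hm (AddSubgroup.mem_bot.1 e)) (fun e => hw (AddSubgroup.mem_bot.1 e))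
      rw [eqV (AddSubgroup.mem_bot.1 hd)]
      exact h.self_orth (hts _ (mv_mem_LT T w))
  have h8 : Nat.card (LT T) ≠ 8 := by
    intro h8
    obtain ⟨v, -, hv0, hv⟩ := h.exists_radical le_rfl hts h8
    exact hv0 (h.FT_eq.symm.le hv)
  have hk4 : k ≤ 4 := by
    by_contra hh
    push Not at hh
    have : 2 ^ 5 ≤ 2 ^ k := Nat.pow_le_pow_right (by norm_num) hh
    omega
  interval_cases k <;> simp only [Nat.reducePow] at hk <;> omega

end Invol

/-! ### An isometry whose square is the involution -/

/-- The data used with a square root `S` of `T`. -/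
structure Chain (T S : V →+ V) (U D : AddSubgroup V) : Prop where
  q : ∀ v, qV 0 (S v) = qV 0 v
  sq : ∀ v, S (S v) = T v
  le : D ≤ U
  fix : ∀ d ∈ D, S d = d
  move : ∀ u ∈ U, S u + u ∈ D

theorem Chain.orth {T S : V →+ V} {U D : AddSubgroup V} (h : Chain T S U D) {v : V} (hv : v ∈ perp D) :
    S v + v ∈ perp U := fun u hu => by
  have hd := h.move u hu
  have e : B (S v) (S u + u) = 0 := by
    rw [← h.fix _ hd, isometry_B h.q]
    exact hv _ hd
  rw [B_add_right, isometry_B h.q] at e
  rw [B_add_left, add_comm]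
  exact e

theorem Chain.image {T S : V →+ V} {U D : AddSubgroup V} (h : Chain T S U D) (hU : perp U ≤ U) {v : V}
    (hv : v ∈ perp D) : mv T v ∈ D := by
  have hz : S v + v ∈ U := hU (h.orth hv)
  have hd := h.move _ hz
  have e : mv T v = S (S v + v) + (S v + v) := by
    rw [mv_apply, map_add, h.sq, show T v + S v + (S v + v) = T v + v + (S v + S v) by abel, addV, add_zero]
  rwa [e]

/-! ### Elementary groups fixing a totally singular subspace -/

/-- No group of order 16 consists, besides the identity, of involutory isometries with fixed space of order 16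
containing one totally singular subspace of order 8. -/
theorem no_sixteen {M : Type*} [Group M] [Finite M] (hM : Nat.card M = 16) (φ : M → (V →+ V))
    (hmul : ∀ m n v, φ (m * n) v = φ m (φ n v)) (hone : ∀ v, φ 1 v = v)
    (U : AddSubgroup V) (hU : Nat.card U = 8) (hts : TS U)
    (hinv : ∀ m, m ≠ 1 → Invol (φ m) ∧ Nat.card (FT (φ m)) = 16 ∧ U ≤ FT (φ m)) : False := by
  classical
  have hfixU : ∀ m, ∀ u ∈ U, φ m u = u := fun m u hu => by
    by_cases hm : m = 1
    · rw [hm]; exact hone u
    · exact mem_FT.1 ((hinv m hm).2.2 hu)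
  have hP : Nat.card (perp U) = 32 := by
    have := card_perp U
    rw [hU] at this
    omega
  -- the image of the orthogonal space
  have key : ∀ m, m ≠ 1 → (∀ e ∈ perp U, mv (φ m) e ∈ U) ∧
      ∀ e ∈ perp U, ∀ e' ∈ perp U, mv (φ m) e ≠ 0 → mv (φ m) e' ≠ 0 → mv (φ m) e = mv (φ m) e' := by
    intro m hm
    obtain ⟨hi, hF, hUF⟩ := hinv m hm
    have hL : Nat.card (LT (φ m)) = 16 := by
      have := card_LT_FT (φ m)
      rw [hF] at this
      omega
    have hLF : LT (φ m) = FT (φ m) := AddSubgroup.eq_of_le_of_card_ge hi.LT_le_FT (by rw [hL, hF])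
    have hFp : FT (φ m) ≤ perp U := by
      rw [hi.FT_eq]
      exact perp_anti (hLF ▸ hUF)
    have hsame : ∀ e ∈ perp U, ∀ e' ∈ perp U, mv (φ m) e ≠ 0 → mv (φ m) e' ≠ 0 →
        mv (φ m) e = mv (φ m) e' := by
      intro e he e' he' h1 h2
      refine eqV ?_
      rw [← map_add]
      exact add_mem_of_card_two hFp (by rw [hP, hF]) he he' h1 h2
    refine ⟨fun e he => ?_, hsame⟩
    by_cases h0 : mv (φ m) e = 0
    · rw [h0]; exact zero_mem U
    · obtain ⟨v, hv, hv0, hvp⟩ := hi.exists_radical (hLF ▸ hUF) hts hU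
      rw [hsame e he v hvp h0 hv0]
      exact hv
  -- two generators modulo `U`
  have hUp : U ≤ perp U := hts.le_perp
  obtain ⟨e1, he1, he1'⟩ : ∃ e ∈ perp U, e ∉ U := by
    by_contra hh
    push Not at hh
    have := AddSubgroup.card_le_of_le (fun x hx => hh x hx : perp U ≤ U)
    omega
  let U1 : AddSubgroup V := U ⊔ AddSubgroup.zmultiples e1
  have hU1 : Nat.card U1 ≤ 16 := by
    have hsub : (U1 : Set V) ⊆ (U : Set V) ∪ (fun u => e1 + u) '' (U : Set V) := by
      intro x hx
      obtain ⟨u, hu, w, hw, rfl⟩ := AddSubgroup.mem_sup.1 hx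
      obtain ⟨n, rfl⟩ := AddSubgroup.mem_zmultiples_iff.1 hw
      rcases Int.even_or_odd' n with ⟨k, rfl | rfl⟩
      · left
        rw [mul_comm, mul_zsmul, two_zsmul, addV, smul_zero, add_zero]; exact hu
      · right
        exact ⟨u, hu, by rw [add_zsmul, one_zsmul, mul_comm, mul_zsmul, two_zsmul, addV, smul_zero, zero_add, add_comm]⟩
    calc Nat.card U1 = (U1 : Set V).ncard := Nat.card_coe_set_eq _
      _ ≤ ((U : Set V) ∪ (fun u => e1 + u) '' (U : Set V)).ncard := Set.ncard_le_ncard hsub
      _ ≤ (U : Set V).ncard + ((fun u => e1 + u) '' (U : Set V)).ncard := Set.ncard_union_le _ _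
      _ ≤ (U : Set V).ncard + (U : Set V).ncard := Nat.add_le_add_left Set.ncard_image_le _
      _ = 16 := by rw [← Nat.card_coe_set_eq]; simp only [SetLike.coe_sort_coe, hU]
  obtain ⟨e2, he2, he2'⟩ : ∃ e ∈ perp U, e ∉ U1 := by
    by_contra hh
    push Not at hh
    have := AddSubgroup.card_le_of_le (fun x hx => hh x hx : perp U ≤ U1)
    omega
  have hspan : perp U ≤ U ⊔ AddSubgroup.zmultiples e1 ⊔ AddSubgroup.zmultiples e2 := by
    have h16 : U1 ≤ perp U := sup_le hUp (AddSubgroup.zmultiples_le.2 he1)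
    have hlt : 8 < Nat.card U1 := by
      by_contra hh
      push Not at hh
      have := AddSubgroup.eq_of_le_of_card_ge (le_sup_left : U ≤ U1)
        (show Nat.card U1 ≤ Nat.card U by omega)
      exact he1' (this ▸ AddSubgroup.mem_sup_right (AddSubgroup.mem_zmultiples e1))
    have h1e : Nat.card U1 = 16 := by
      obtain ⟨k, hk, hke⟩ := card_cases U1
      interval_cases k <;> omega
    intro x hx
    by_cases hxu : x ∈ U1
    · exact AddSubgroup.mem_sup_left hxu
    · have := add_mem_of_card_two h16 (by rw [hP, h1e]) hx he2 hxu he2'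
      have e : x = (x + e2) + e2 := by rw [add_assoc, addV, add_zero]
      rw [e]
      exact add_mem (AddSubgroup.mem_sup_left this) (AddSubgroup.mem_sup_right (AddSubgroup.mem_zmultiples e2))
  let c : M → V := fun m => mv (φ m) e1
  let d : M → V := fun m => mv (φ m) e2
  have mem : ∀ m e, e ∈ perp U → mv (φ m) e ∈ U := fun m e he => by
    by_cases hm : m = 1
    · rw [hm, mv_apply, hone, addV]; exact zero_mem U
    · exact (key m hm).1 e he
  have hadd : ∀ m n e, e ∈ perp U → mv (φ (m * n)) e = mv (φ m) e + mv (φ n) e := fun m n e he => by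
    rw [mv_apply, hmul, T_eq (φ n) e, map_add, hfixU m _ (mem n e he), mv_apply (φ m)]
    abel
  have inj : ∀ m, c m = 0 → d m = 0 → m = 1 := by
    intro m hc hd
    by_contra hm
    have hle : perp U ≤ FT (φ m) := hspan.trans (sup_le (sup_le (hinv m hm).2.2
      (AddSubgroup.zmultiples_le.2 hc)) (AddSubgroup.zmultiples_le.2 hd))
    have := AddSubgroup.card_le_of_le hle
    rw [hP, (hinv m hm).2.1] at this
    omega
  have shape : ∀ m, c m = 0 ∨ d m = 0 ∨ c m = d m := fun m => by
    by_cases hm : m = 1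
    · left; show mv (φ m) e1 = 0; rw [hm, mv_apply, hone, addV]
    · by_cases h1 : c m = 0
      · exact Or.inl h1
      · by_cases h2 : d m = 0
        · exact Or.inr (Or.inl h2)
        · exact Or.inr (Or.inr ((key m hm).2 e1 he1 e2 he2 h1 h2))
  have hc_add : ∀ m n, c (m * n) = c m + c n := fun m n => hadd m n e1 he1
  have hd_add : ∀ m n, d (m * n) = d m + d n := fun m n => hadd m n e2 he2
  -- the kernel of the first coordinate
  let π : M → ↥U := fun m => ⟨c m, mem m e1 he1⟩
  have pinj : ∀ m n, c m = c n → d m = d n → m = n := fun m n h1 h2 => by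
    have hc1 : c 1 = 0 := by show mv (φ 1) e1 = 0; rw [mv_apply, hone, addV]
    have hd1 : d 1 = 0 := by show mv (φ 1) e2 = 0; rw [mv_apply, hone, addV]
    have hn : c m⁻¹ = c m ∧ d m⁻¹ = d m := by
      have a1 := hc_add m⁻¹ m
      have a2 := hd_add m⁻¹ m
      rw [inv_mul_cancel, hc1] at a1
      rw [inv_mul_cancel, hd1] at a2
      exact ⟨eqV a1.symm, eqV a2.symm⟩
    have := inj (m⁻¹ * n) (by rw [hc_add, hn.1, h1, addV]) (by rw [hd_add, hn.2, h2, addV])
    exact inv_mul_eq_one.1 this
  have card_fibre : ∀ S : Set M, (∀ m ∈ S, c m = 0) → S.ncard ≤ 8 := fun S hS => by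
    calc S.ncard ≤ (U : Set V).ncard :=
          Set.ncard_le_ncard_of_injOn d (fun m _ => mem m e2 he2)
            (fun m hm n hn e => pinj m n ((hS m hm).trans (hS n hn).symm) e)
      _ = 8 := by rw [← Nat.card_coe_set_eq]; exact hU
  -- some element moves `e1`
  obtain ⟨m1, hm1⟩ : ∃ m, c m ≠ 0 := by
    by_contra hh
    push Not at hh
    have := card_fibre Set.univ fun m _ => hh m
    rw [Set.ncard_univ, hM] at this
    omega
  have fib : ∀ m k, c m ≠ 0 → c k = 0 → d k ≠ 0 → d k = c m := by
    intro m k hm hk hk0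
    have s1 := shape m
    have s2 := shape (m * k)
    rw [hc_add, hd_add, hk, add_zero] at s2
    rcases s1 with a | a | a
    · exact absurd a hm
    · rcases s2 with b | b | b
      · exact absurd b hm
      · rw [a, zero_add] at b; exact absurd b hk0
      · rw [a, zero_add] at b; exact b.symm
    · rcases s2 with b | b | b
      · exact absurd b hm
      · rw [← a] at b; exact (eqV b).symm
      · rw [← a] at b
        exact absurd (left_eq_add.1 b) hk0
  obtain ⟨m, n, hmn, hne⟩ : ∃ m n, c m = c n ∧ m ≠ n := by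
    by_contra hh
    push Not at hh
    have := Nat.card_le_card_of_injective π fun m n e => hh m n (congrArg Subtype.val e)
    omega
  have hk : c (m * n) = 0 := by rw [hc_add, hmn, addV]
  have hk0 : d (m * n) ≠ 0 := fun e => by
    rw [hd_add] at e
    exact hne (pinj m n hmn (eqV e))
  -- all nonzero values of the first coordinate coincide
  have one_val : ∀ p, c p = 0 ∨ c p = c m1 := fun p => by
    by_cases hp : c p = 0
    · exact Or.inl hp
    · exact Or.inr ((fib p _ hp hk hk0).symm.trans (fib m1 _ hm1 hk hk0))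
  have fibre2 : {p | c p = 0}.ncard ≤ 2 := by
    calc _ ≤ ({0, c m1} : Set V).ncard := Set.ncard_le_ncard_of_injOn d
            (fun p hp => by
              by_cases h0 : d p = 0
              · exact Or.inl h0
              · exact Or.inr (fib m1 p hm1 hp h0))
            (fun p hp q hq e => pinj p q ((show c p = 0 from hp).trans (show c q = 0 from hq).symm) e)
      _ ≤ 2 := (Set.ncard_insert_le _ _).trans (by rw [Set.ncard_singleton])
  have other : {p | c p = c m1}.ncard ≤ 2 := by
    calc _ ≤ {p | c p = 0}.ncard := Set.ncard_le_ncard_of_injOn (fun p => m1 * p)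
            (fun p hp => by
              show c (m1 * p) = 0
              rw [hc_add, show c p = c m1 from hp, addV])
            (fun p _ q _ e => mul_left_cancel e)
      _ ≤ 2 := fibre2
  have huniv : (Set.univ : Set M) ⊆ {p | c p = 0} ∪ {p | c p = c m1} := fun p _ => one_val p
  have := (Set.ncard_le_ncard huniv).trans (Set.ncard_union_le _ _)
  rw [Set.ncard_univ, hM] at this
  omega

end CfsgLib.CoOneUnique.Fus
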