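import Mathlib
import Cfsg.Agent.Lib.CoOneUnique.Fus.Linear

/-!
The standard totally singular line `⟨x₀, inj A₁⟩`: moving an arbitrary one to it, ten products of reflections
fixing it together with two partners, and their action on the four-dimensional residue.
-/

set_option autoImplicit false
set_option linter.style.longLine false
set_option linter.unusedSectionVars false
set_option synthInstance.maxSize 8000
set_option synthInstance.maxHeartbeats 1000000
set_option maxHeartbeats 2000000
set_option maxRecDepth 20000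

namespace CfsgLib.CoOneUnique.Fus

open CfsgLib.CoOneType

/-- The residue. -/
abbrev R4 := P2 × P2

/-- The partner of `inj A1`. -/
def g1 : V := inj ((0, 1), (0, 0))

/-- The second point of the standard line. -/
def l2 : V := inj A1

/-- The residue part. -/
def res : V →+ R4 where
  toFun v := v.2.2
  map_zero' := rfl
  map_add' _ _ := rfl

/-- A residue vector inside the big space. -/
def embR (x : R4) : V := (0, (0, x))

/-- The form on the residue. -/
def BR (x y : R4) : ZMod 2 := pB x.1 y.1 + pB x.2 y.2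

theorem BW_smul' (t : ZMod 2) (a b : W) : BW a (t • b) = t * BW a b := by
  rw [BW_comm, BW_smul_left, BW_comm]

theorem E_q (u : W) (v : V) : qV 0 (E u v) = qV 0 v := by
  rcases zcases v.1.2 with h | h
  · simp [qV, E, h]
  · simp only [qV, E, h, one_mul, mul_one, one_smul, qW_add, BW_comm v.2 u]
    linear_combination (CharTwo.add_self_eq_zero (BW u v.2)) + CharTwo.add_self_eq_zero (qW 0 u)

theorem move_point : ∀ w : W, w ≠ 0 → qW 0 w = 0 →
    ∃ a : W, (qW 0 a = 1 ∨ a = 0) ∧ ∃ b : W, (qW 0 b = 1 ∨ b = 0) ∧ reflW a (reflW b w) = A1 := by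
  decide +kernel

/-- A product of reflections of vectors of the residue space and of reflections of the big space. -/
theorem normalise {u1 u2 : V} (h1 : u1 ≠ 0) (h2 : u2 ≠ 0) (hne : u1 ≠ u2) (q1 : qV 0 u1 = 0) (q2 : qV 0 u2 = 0)
    (hB : B u1 u2 = 0) :
    ∃ f : V →+ V, (∀ v, qV 0 (f v) = qV 0 v) ∧ Function.Surjective f ∧ f x0 = u1 ∧ f l2 = u2 := by
  obtain ⟨a, b, ha, hb, hab⟩ := pair_move h1 q1
  have hqr : ∀ {x : V} (v : V), qV 0 x = 1 → qV 0 (CoOneType.refl x v) = qV 0 v := fun v hx =>
    refl_q 0 _ v (Or.inl hx)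
  have hBr : ∀ {x : V}, qV 0 x = 1 → ∀ v w, B (CoOneType.refl x v) (CoOneType.refl x w) = B v w := fun hx v w => by
    have e := hqr (v + w) hx
    rw [refl_add, qV_add, qV_add, hqr v hx, hqr w hx] at e
    exact add_left_cancel e
  set w : V := CoOneType.refl a (CoOneType.refl b u2) with hw
  have hw2 : w.1.2 = 0 := by rw [← B_x0, hw, ← hab, hBr ha, hBr hb, B_comm, hB]
  have hwq : qW 0 w.2 = 0 := by
    have e : qV 0 w = 0 := by rw [hw, hqr _ ha, hqr _ hb, q2]
    simpa [qV, hw2] using e
  have hinj : ∀ {x : V}, Function.Injective (CoOneType.refl x) := fun {x} =>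
    Function.LeftInverse.injective (refl_refl x)
  have hw0 : w.2 ≠ 0 := by
    intro e
    rcases zero_line w hw2 e with e' | e'
    · exact h2 (hinj (hinj (e'.trans (by simp [CoOneType.refl, B_zero_left]))))
    · exact hne (hinj (hinj (hab.trans e'.symm)))
  obtain ⟨a', ha', b', hb', hab'⟩ := move_point w.2 hw0 hwq
  let u : W := w.1.1 • ((0, 1), (0, 0))
  refine ⟨AddMonoidHom.mk' (fun v => CoOneType.refl b (CoOneType.refl a (CoOneType.refl (inj b') (CoOneType.refl (inj a') (E u v)))))
    fun x y => by simp only [E_add, refl_add], fun v => ?_, fun v => ?_, ?_, ?_⟩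
  · simp only [AddMonoidHom.mk'_apply]
    have qinj : ∀ x : W, (qW 0 x = 1 ∨ x = 0) → (qV 0 (inj x) = 1 ∨ inj x = 0) := fun x hx => by
      rcases hx with e | e
      · exact Or.inl (by rw [qV_inj, e])
      · exact Or.inr (by rw [e]; rfl)
    rw [hqr _ hb, hqr _ ha, refl_q 0 _ _ (qinj _ hb'), refl_q 0 _ _ (qinj _ ha'), E_q]
  · have hEE : ∀ x, E u (E u x) = x := fun x => by
      refine eqV ?_
      obtain ⟨⟨x1, x2⟩, x3⟩ := x
      refine Prod.ext (Prod.ext ?_ ?_) ?_
      · show x1 + BW u x3 + x2 * qW 0 u + BW u (x3 + x2 • u) + x2 * qW 0 u + x1 = 0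
        rw [BW_add_right, BW_smul', BW_self]
        linear_combination CharTwo.add_self_eq_zero x1 + CharTwo.add_self_eq_zero (BW u x3) +
          CharTwo.add_self_eq_zero (x2 * qW 0 u)
      · exact CharTwo.add_self_eq_zero x2
      · show x3 + x2 • u + x2 • u + x3 = 0
        rw [add_assoc x3, addW, add_zero, addW]
    refine ⟨E u (CoOneType.refl (inj a') (CoOneType.refl (inj b') (CoOneType.refl a (CoOneType.refl b v)))), ?_⟩
    simp only [AddMonoidHom.mk'_apply, hEE, refl_refl]
  · simp only [AddMonoidHom.mk'_apply]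
    rw [E_x0, refl_inj_x0, refl_inj_x0, ← hab, refl_refl, refl_refl]
  · simp only [AddMonoidHom.mk'_apply]
    have e1 : E u l2 = ((w.1.1, 0), A1) := by
      show ((0 + BW u A1 + 0 * qW 0 u, 0), A1 + (0 : ZMod 2) • u) = _
      rw [zero_mul, zero_smul, zero_add, add_zero, add_zero]
      show ((BW (w.1.1 • ((0, 1), (0, 0))) A1, 0), A1) = _
      rw [BW_smul_left, show BW ((0, 1), (0, 0)) A1 = 1 from rfl, mul_one]
    have e2 : ((w.1.1, 0), A1) = w.1.1 • x0 + inj A1 := by
      rcases zcases w.1.1 with e | e <;> simp [e, x0, inj]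
    have hsm : ∀ (x : V) (t : ZMod 2), t • x0 + x = x + t • x0 := fun x t => add_comm _ _
    have fix : ∀ x : W, CoOneType.refl (inj x) (w.1.1 • x0) = w.1.1 • x0 := fun x => by
      rcases zcases w.1.1 with e | e
      · simp [e, CoOneType.refl, B_zero_left]
      · rw [e, one_smul, refl_inj_x0]
    have hback : reflW b' (reflW a' A1) = w.2 := by
      have hrr : ∀ x y : W, reflW x (reflW x y) = y := fun x y => by
        have := refl_refl (inj x) (inj y)
        rw [refl_inj, refl_inj] at this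
        exact congrArg Prod.snd this
      rw [← hab', hrr, hrr]
    rw [e1, e2, refl_add, fix, refl_inj, refl_add, fix, refl_inj, hback]
    have e3 : w.1.1 • x0 + inj w.2 = w := by
      refine Prod.ext (Prod.ext ?_ ?_) ?_ <;>
        rcases zcases w.1.1 with e | e <;> simp [e, x0, inj, hw2]
    rw [e3, hw, refl_refl, refl_refl]

/-- Ten words in pairs of reflection vectors. -/
def gens : Fin 10 → List (V × V) :=
  let v (a b c d : ZMod 2) : V := (0, (0, ((a, b), (c, d))))
  let sw : List (V × V) := [(((1, 1), 0), ((1, 1), (0, ((0, 1), (0, 1))))),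
    (((1, 1), (0, ((1, 0), (1, 0)))), ((1, 1), (0, ((1, 1), (1, 1)))))]
  ![[(v 0 0 1 1, v 0 1 1 1)], [(v 0 0 1 1, v 1 0 1 1)], [(v 0 1 1 1, v 1 1 1 0)], [(v 1 0 1 1, v 1 1 0 1)],
    [(v 1 1 0 0, v 1 1 0 1)], [(v 1 1 0 0, v 1 1 1 0)], sw, sw ++ [(v 0 0 1 1, v 0 1 1 1)],
    sw ++ [(v 0 0 1 1, v 1 0 1 1)], sw ++ [(v 0 0 1 1, v 1 1 0 1)]]

/-- The isometry of a word. -/
def app : List (V × V) → V → V
  | [], v => v
  | ab :: l, v => CoOneType.refl ab.1 (CoOneType.refl ab.2 (app l v))

/-- The action of a word on the residue. -/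
def gR (i : Fin 10) (x : R4) : R4 := res (app (gens i) (embR x))

theorem app_add (l : List (V × V)) (v w : V) : app l (v + w) = app l v + app l w := by
  induction l with
  | nil => rfl
  | cons ab l ih => simp only [app, ih, refl_add]

theorem gens_all : ∀ i, (gens i).all (fun ab => decide (qV 0 ab.1 = 1 ∧ qV 0 ab.2 = 1)) = true := by
  decide +kernel

theorem gens_q (i : Fin 10) (ab : V × V) (h : ab ∈ gens i) : qV 0 ab.1 = 1 ∧ qV 0 ab.2 = 1 :=
  of_decide_eq_true (List.all_eq_true.1 (gens_all i) ab h)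

theorem gens_fix : ∀ i, app (gens i) x0 = x0 ∧ app (gens i) l2 = l2 ∧ app (gens i) f0 = f0 ∧
    app (gens i) g1 = g1 := by decide +kernel

theorem gens_res : ∀ i, ∀ v : V, v.1.2 = 0 → v.2.1.2 = 0 → res (app (gens i) v) = gR i (res v) := by
  decide +kernel

theorem pick : ∀ f1 f2 : R4, BR f1 f2 = 1 → ∃ i, gR i f2 = f2 ∧ gR i f1 ≠ f1 := by decide +kernel

theorem reach : ∀ a : R4, a ≠ 0 → ∀ h : R4, h ≠ 0 → BR a h = 1 ∨ ∃ i, BR (gR i a) h = 1 := by decide +kernel

/-- No subgroup of order at most 16 of pairs of residue vectors is invariant and contains a non-orthogonal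
pair. -/
theorem no_invariant (F : AddSubgroup (R4 × R4)) (hF : Nat.card F ≤ 16)
    (hinv : ∀ i, ∀ p ∈ F, (gR i p.1, gR i p.2) ∈ F) {p : R4 × R4} (hp : p ∈ F) (hB : BR p.1 p.2 = 1) : False := by
  classical
  obtain ⟨f1, f2⟩ := p
  obtain ⟨i, h2, h1⟩ := pick f1 f2 hB
  have hinv' : (gR i f1, gR i f2) ∈ F := hinv i _ hp
  have ha : (gR i f1 + f1, (0 : R4)) ∈ F := by
    have e := add_mem hinv' hp
    rw [h2, Prod.mk_add_mk] at e
    rwa [show f2 + f2 = 0 from Prod.ext (addP _) (addP _)] at e
  have hane : gR i f1 + f1 ≠ 0 := fun e => h1 (by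
    refine Prod.ext ?_ ?_
    · exact (add_eq_zero_iff_eq_neg.1 (congrArg Prod.fst e)).trans (neg_eq_of_add_eq_zero_left (addP _))
    · exact (add_eq_zero_iff_eq_neg.1 (congrArg Prod.snd e)).trans (neg_eq_of_add_eq_zero_left (addP _)))
  let I : AddSubgroup R4 := F.comap (AddMonoidHom.inl R4 R4)
  let J : AddSubgroup V := I.comap res
  have hJ : perp J = ⊥ := by
    refine eq_bot_iff.2 fun h hh => AddSubgroup.mem_bot.2 ?_
    have hker : ∀ v, res v = 0 → B h v = 0 := fun v hv => hh v (by show res v ∈ I; rw [hv]; exact zero_mem I)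
    have k1 := hker x0 rfl
    have k2 := hker f0 rfl
    have k3 := hker l2 rfl
    have k4 := hker g1 rfl
    obtain ⟨⟨a, b⟩, ⟨c, d⟩, r⟩ := h
    simp [B, x0, f0, l2, g1, inj, A1, BW, pB] at k1 k2 k3 k4
    subst k1 k2 k3 k4
    by_contra hr
    have hr0 : r ≠ 0 := fun e => hr (by rw [e]; rfl)
    have hI : ∀ x ∈ I, BR x r = 0 := fun x hx => by
      have := hh (embR x) (show res (embR x) ∈ I from hx)
      rw [B_comm] at this
      simpa [B, BW, BR, embR, pB] using this
    rcases reach _ hane r hr0 with e | ⟨j, e⟩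
    · rw [hI _ ha] at e; exact zero_ne_one e
    · have hj : (gR j (gR i f1 + f1), gR j 0) ∈ F := hinv j _ ha
      have h0 : gR j 0 = 0 := by
        have := app_add (gens j) 0 0
        rw [add_zero, left_eq_add] at this
        show res (app (gens j) 0) = 0
        rw [this, map_zero]
      rw [h0] at hj
      rw [hI _ hj] at e
      exact zero_ne_one e
  have hJtop : J = ⊤ := by
    rw [← perp_perp J, hJ]
    exact eq_top_iff.2 fun v _ u hu => by rw [AddSubgroup.mem_bot.1 hu, B_zero_right]
  have hall : ∀ x : R4, (x, (0 : R4)) ∈ F := fun x => by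
    have : embR x ∈ J := hJtop ▸ AddSubgroup.mem_top _
    exact this
  have hf2 : f2 ≠ 0 := fun e => by
    rw [e] at hB
    simp [BR, pB] at hB
  have h17 : 17 ≤ Nat.card F := by
    have hinj : Function.Injective (fun x : Option R4 =>
        (x.elim ⟨(f1, f2), hp⟩ fun r => ⟨(r, 0), hall r⟩ : ↥F)) := by
      rintro (_ | x) (_ | y) e
      · rfl
      · exact absurd (congrArg (fun z : ↥F => z.1.2) e) hf2
      · exact absurd (congrArg (fun z : ↥F => z.1.2) e).symm hf2
      · exact congrArg some (congrArg (fun z : ↥F => z.1.1) e)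
    have := Nat.card_le_card_of_injective _ hinj
    simp [Nat.card_eq_fintype_card] at this ⊢
    exact this
  omega

end CfsgLib.CoOneUnique.Fus
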