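import Mathlib
import Cfsg.Agent.Lib.CoOneUnique.Fus.Pre
import Cfsg.Agent.Lib.CoOneUnique.Fus.Linear
import Cfsg.Agent.Lib.LargeExtra.Transport

/-!
Two commuting conjugates `a ≠ b` of an involution weakly closed in the extraspecial subgroup of its
centralizer: the subspaces of the coordinates at `a` attached to `b`.
-/

set_option autoImplicit false
set_option linter.style.longLine false
set_option linter.unusedSectionVars false
set_option synthInstance.maxSize 8000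
set_option synthInstance.maxHeartbeats 1000000
set_option maxHeartbeats 1000000

namespace CfsgLib.CoOneUnique.Fus

open Subgroup CfsgLib.CoOneType

/-- An involution of the given centralizer type, weakly closed in its extraspecial subgroup. -/
structure Std (G : Type*) [Group G] [Finite G] where
  z : G
  Q : Subgroup G
  pre : Hyp z Q
  weak : ∀ g : G, g * z * g⁻¹ ∈ Q → g * z * g⁻¹ = z

variable {G : Type*} [Group G] [Finite G] (S : Std G)

namespace Std

/-- The conjugates of the involution. -/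
def X (a : G) : Prop := ∃ g : G, g * S.z * g⁻¹ = a

open scoped Classical in
/-- The extraspecial subgroup attached to a conjugate. -/
noncomputable def qof (a : G) : Subgroup G :=
  S.Q.map (MulAut.conj (if h : S.X a then Classical.choose h else 1)).toMonoidHom

theorem mem_qof {a g : G} (hg : g * S.z * g⁻¹ = a) {y : G} : y ∈ S.qof a ↔ g⁻¹ * y * g ∈ S.Q := by
  classical
  have hX : S.X a := ⟨g, hg⟩
  rw [qof, dif_pos hX]
  have hk := Classical.choose_spec hX
  generalize Classical.choose hX = k at hk ⊢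
  rw [mem_map_equiv, MulAut.conj_symm_apply]
  have hc : k⁻¹ * g * S.z = S.z * (k⁻¹ * g) := by
    refine mul_inv_eq_iff_eq_mul.1 ?_
    rw [show k⁻¹ * g * S.z * (k⁻¹ * g)⁻¹ = k⁻¹ * (g * S.z * g⁻¹) * k by group, hg, ← hk]
    group
  have hc' : (k⁻¹ * g)⁻¹ * S.z = S.z * (k⁻¹ * g)⁻¹ := (Commute.inv_left hc).eq
  constructor
  · intro hy
    have := S.pre.norm _ hc' _ hy
    rwa [show (k⁻¹ * g)⁻¹ * (k⁻¹ * y * k) * ((k⁻¹ * g)⁻¹)⁻¹ = g⁻¹ * y * g by group] at this
  · intro hy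
    have := S.pre.norm _ hc _ hy
    rwa [show k⁻¹ * g * (g⁻¹ * y * g) * (k⁻¹ * g)⁻¹ = k⁻¹ * y * k by group] at this

theorem X_conj {a : G} (ha : S.X a) (c : G) : S.X (c * a * c⁻¹) := by
  obtain ⟨g, rfl⟩ := ha
  exact ⟨c * g, by group⟩

theorem qof_conj {a : G} (ha : S.X a) (c y : G) : c * y * c⁻¹ ∈ S.qof (c * a * c⁻¹) ↔ y ∈ S.qof a := by
  obtain ⟨g, hg⟩ := ha
  rw [S.mem_qof hg, S.mem_qof (g := c * g) (by rw [← hg]; group),
    show (c * g)⁻¹ * (c * y * c⁻¹) * (c * g) = g⁻¹ * y * g by group]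

theorem comm_of_eq {g a c : G} (hg : g * S.z * g⁻¹ = a) (hc : c * a = a * c) :
    g⁻¹ * c * g * S.z = S.z * (g⁻¹ * c * g) := by
  refine mul_inv_eq_iff_eq_mul.1 ?_
  rw [show g⁻¹ * c * g * S.z * (g⁻¹ * c * g)⁻¹ = g⁻¹ * (c * (g * S.z * g⁻¹) * c⁻¹) * g by group, hg, hc,
    mul_inv_cancel_right, ← hg]
  group

theorem pre_qof {a : G} (ha : S.X a) : Hyp a (S.qof a) := by
  obtain ⟨g, hg⟩ := ha
  have : Fact (Nat.Prime 2) := ⟨Nat.prime_two⟩
  have hm : ∀ y, y ∈ S.qof a ↔ g⁻¹ * y * g ∈ S.Q := fun y => S.mem_qof hg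
  let φ : G ≃* G := MulAut.conj g
  have hQ : S.qof a = S.Q.map φ.toMonoidHom := by
    ext y
    rw [hm, mem_map_equiv, MulAut.conj_symm_apply]
  have hφz : φ S.z = a := hg
  refine ⟨?_, fun y hy => ?_, fun c hc y hy => ?_, ?_, ⟨?_, ?_, ?_⟩, fun c hc h => ?_, ?_⟩
  · rw [← hφz, MulEquiv.orderOf_eq, S.pre.hz]
  · rw [hQ] at hy
    obtain ⟨x, hx, rfl⟩ := hy
    rw [mem_centralizer_singleton_iff, ← hφz]
    show φ x * φ S.z = φ S.z * φ x
    rw [← map_mul, ← map_mul, S.pre.extra.comm_z hx]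
  · rw [hm] at hy ⊢
    have := S.pre.norm _ (S.comm_of_eq hg hc) _ hy
    rwa [show g⁻¹ * c * g * (g⁻¹ * y * g) * (g⁻¹ * c * g)⁻¹ = g⁻¹ * (c * y * c⁻¹) * g by group] at this
  · rw [hQ, Subgroup.card_map_of_injective φ.injective, S.pre.card]
  · rw [hQ]
    exact CfsgLib.LargeExtra.isExtraspecial_of_equiv (S.Q.equivMapOfInjective _ φ.injective) S.pre.extra.extra
  · rw [← hφz, MulEquiv.orderOf_eq, S.pre.hz]
  · rw [show zpowers a = (zpowers S.z).map φ.toMonoidHom by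
      rw [MonoidHom.map_zpowers]; exact congrArg zpowers hφz.symm]
    ext y
    constructor
    · rintro ⟨⟨x, hx⟩, hxc, rfl⟩
      have hx' : x ∈ S.qof a := hx
      rw [hQ] at hx'
      obtain ⟨x0, hx0, e0⟩ := hx'
      refine ⟨x0, ?_, e0⟩
      rw [SetLike.mem_coe, S.pre.extra.mem_zpowers_z]
      refine S.pre.extra.central_cases hx0 fun q hq => φ.injective ?_
      have := congrArg Subtype.val (Subgroup.mem_center_iff.1 hxc ⟨φ q, by rw [hQ]; exact ⟨q, hq, rfl⟩⟩)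
      rw [map_mul, map_mul]
      show φ q * φ x0 = φ x0 * φ q
      simpa [← show φ x0 = x from e0] using this
    · rintro ⟨x0, hx0, rfl⟩
      rw [SetLike.mem_coe, S.pre.extra.mem_zpowers_z] at hx0
      have hx0Q : x0 ∈ S.Q := by
        rcases hx0 with rfl | rfl
        exacts [one_mem _, S.pre.extra.z_mem]
      refine ⟨⟨φ x0, by rw [hQ]; exact ⟨x0, hx0Q, rfl⟩⟩, Subgroup.mem_center_iff.2 fun q => Subtype.ext ?_, rfl⟩
      obtain ⟨q, hq⟩ := q
      rw [hQ] at hq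
      obtain ⟨q0, hq0, rfl⟩ := hq
      show φ q0 * φ x0 = φ x0 * φ q0
      rw [← map_mul, ← map_mul]
      rcases hx0 with rfl | rfl
      · rw [mul_one, one_mul]
      · rw [S.pre.extra.comm_z hq0]
  · rw [hm]
    refine S.pre.self _ (S.comm_of_eq hg hc) fun y hy => ?_
    have := h (g * y * g⁻¹) ((hm _).2 (by rwa [show g⁻¹ * (g * y * g⁻¹) * g = y by group]))
    calc y * (g⁻¹ * c * g) = g⁻¹ * (g * y * g⁻¹ * c) * g := by group
      _ = g⁻¹ * c * g * y := by rw [this]; group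
  · rw [← hφz]
    refine (Nat.card_congr (Equiv.subtypeEquiv φ.toEquiv fun x => ?_)).symm.trans S.pre.cardC
    rw [mem_centralizer_singleton_iff, mem_centralizer_singleton_iff]
    show x * S.z = S.z * x ↔ φ x * φ S.z = φ S.z * φ x
    rw [← map_mul, ← map_mul, φ.injective.eq_iff]

/-- Coordinates at a conjugate. -/
noncomputable def co {a : G} (ha : S.X a) : Coord a (S.qof a) 0 := (S.pre_qof ha).exists_plus.some

theorem X_sq {a : G} (ha : S.X a) : a * a = 1 := (S.pre_qof ha).extra.sq_one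

theorem X_inv {a : G} (ha : S.X a) : a⁻¹ = a := (S.pre_qof ha).extra.inv_eq

theorem X_ne_one {a : G} (ha : S.X a) : a ≠ 1 := (S.pre_qof ha).extra.ne_one

theorem self_mem {a : G} (ha : S.X a) : a ∈ S.qof a := (S.pre_qof ha).extra.z_mem

theorem qof_comm {a y : G} (ha : S.X a) (hy : y ∈ S.qof a) : y * a = a * y := (S.pre_qof ha).extra.comm_z hy

theorem eq_of_mem {a b : G} (ha : S.X a) (hb : S.X b) (h : b ∈ S.qof a) : b = a := by
  obtain ⟨g, hg⟩ := ha
  obtain ⟨k, hk⟩ := hb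
  rw [S.mem_qof hg, ← hk] at h
  have := S.weak (g⁻¹ * k) (by rwa [show g⁻¹ * k * S.z * (g⁻¹ * k)⁻¹ = g⁻¹ * (k * S.z * k⁻¹) * g by group])
  rw [← hk, ← hg, show k * S.z * k⁻¹ = g * (g⁻¹ * k * S.z * (g⁻¹ * k)⁻¹) * g⁻¹ by group, this]

/-- Two commuting conjugates. -/
structure Pair (a b : G) : Prop where
  ha : S.X a
  hb : S.X b
  ne : a ≠ b
  comm : a * b = b * a

variable {S}

theorem Pair.symm {a b : G} (p : S.Pair a b) : S.Pair b a := ⟨p.hb, p.ha, fun e => p.ne e.symm, p.comm.symm⟩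

theorem Pair.b_not_mem {a b : G} (p : S.Pair a b) : b ∉ S.qof a :=
  fun h => p.ne (S.eq_of_mem p.ha p.hb h).symm

theorem Pair.conj {a b : G} (p : S.Pair a b) (c : G) : S.Pair (c * a * c⁻¹) (c * b * c⁻¹) :=
  ⟨S.X_conj p.ha c, S.X_conj p.hb c, fun e => p.ne (mul_left_cancel (mul_right_cancel e)), by
    rw [show c * a * c⁻¹ * (c * b * c⁻¹) = c * (a * b) * c⁻¹ by group, p.comm]; group⟩

end Std

open Std

/-- The linear action of an element of the centralizer. -/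
noncomputable def actHom {z : G} {Q : Subgroup G} (K : Coord z Q 0) (H : Hyp z Q) {c : G} (hc : c * z = z * c) :
    V →+ V :=
  AddMonoidHom.mk' (K.act c) (K.act_add H hc)

theorem actHom_apply {z : G} {Q : Subgroup G} (K : Coord z Q 0) (H : Hyp z Q) {c : G} (hc : c * z = z * c)
    (v : V) : actHom K H hc v = K.act c v := rfl

theorem actHom_vec {z : G} {Q : Subgroup G} (K : Coord z Q 0) (H : Hyp z Q) {c : G} (hc : c * z = z * c)
    {x : G} (hx : x ∈ Q) : actHom K H hc (K.vec x) = K.vec (c * x * c⁻¹) := K.act_vec H hc hx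

/-- The image of a subgroup in the coordinates. -/
def img {z : G} {Q : Subgroup G} (K : Coord z Q 0) (R : Subgroup G) : AddSubgroup V where
  carrier := {v | ∃ x ∈ R ⊓ Q, K.vec x = v}
  zero_mem' := ⟨1, one_mem _, K.vec_one⟩
  add_mem' := fun {a b} ⟨x, hx, hxa⟩ ⟨y, hy, hyb⟩ =>
    ⟨x * y, mul_mem hx hy, by rw [K.mul hx.2 hy.2, hxa, hyb]⟩
  neg_mem' := fun {a} h => by rwa [negV]

namespace Std.Pair

variable {S} {a b : G} (p : S.Pair a b)
include p

/-- The coordinates at `a`. -/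
noncomputable abbrev K : Coord a (S.qof a) 0 := S.co p.ha

theorem HA : Hyp a (S.qof a) := S.pre_qof p.ha

/-- The action of `b`. -/
noncomputable def T : V →+ V := actHom p.K p.HA p.comm.symm

/-- The image of the centralizer of `b`. -/
noncomputable def U : AddSubgroup V := img p.K (centralizer ({b} : Set G))

/-- The image of the common part of the two extraspecial subgroups. -/
noncomputable def D : AddSubgroup V := img p.K (S.qof b)

/-- `a * b` is a conjugate of `b` under the extraspecial subgroup of `a`. -/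
def Tw (_p : S.Pair a b) : Prop := ∃ q ∈ S.qof a, q * b * q⁻¹ = a * b

theorem T_vec {x : G} (hx : x ∈ S.qof a) : p.T (p.K.vec x) = p.K.vec (b * x * b⁻¹) :=
  actHom_vec _ _ _ hx

theorem invol : Invol p.T where
  q := fun v => p.K.act_q p.HA p.comm.symm v
  inv := fun v => by
    show p.K.act b (p.K.act b v) = v
    rw [← p.K.act_mul p.HA p.comm.symm p.comm.symm, S.X_sq p.hb, p.K.act_one p.HA]

theorem nontriv : ∃ v, p.T v ≠ v := by
  by_contra h
  push Not at h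
  exact p.b_not_mem (p.K.mem_of_act p.HA p.comm.symm h)

/-- The twisting element of a conjugation. -/
theorem twist {q : G} (hq : q ∈ S.qof a) :
    b * q⁻¹ * b * q ∈ S.qof a ∧ q⁻¹ * b * q = b * (b * q⁻¹ * b * q) ∧
      p.K.vec (b * q⁻¹ * b * q) = mv p.T (p.K.vec q) ∧
      b * (b * q⁻¹ * b * q) * b⁻¹ = (b * q⁻¹ * b * q)⁻¹ := by
  have hb2 := S.X_sq p.hb
  have hbi := S.X_inv p.hb
  have hn : b * q⁻¹ * b⁻¹ ∈ S.qof a := p.HA.norm b p.comm.symm _ (inv_mem hq)
  have e1 : b * q⁻¹ * b * q = b * q⁻¹ * b⁻¹ * q := by rw [hbi]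
  refine ⟨e1 ▸ mul_mem hn hq, ?_, ?_, ?_⟩
  · calc q⁻¹ * b * q = b * b * (q⁻¹ * b * q) := by rw [hb2, one_mul]
      _ = b * (b * q⁻¹ * b * q) := by group
  · rw [e1, p.K.mul hn hq, ← p.T_vec (inv_mem hq), p.K.vec_inv hq, mv_apply]
  · calc b * (b * q⁻¹ * b * q) * b⁻¹ = b * b * (q⁻¹ * b * q * b⁻¹) := by group
      _ = (b * q⁻¹ * b * q)⁻¹ := by rw [hb2, one_mul, hbi, mul_inv_rev, mul_inv_rev, mul_inv_rev, inv_inv, hbi, mul_assoc, mul_assoc]

theorem mem_U_iff {x : G} (hx : x ∈ S.qof a) : p.K.vec x ∈ p.U ↔ x * b = b * x := by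
  constructor
  · rintro ⟨y, hy, e⟩
    have hyb := mem_centralizer_singleton_iff.1 hy.1
    rcases p.K.eq_or p.HA hy.2 hx e with rfl | rfl
    · exact hyb
    · rw [mul_assoc] at hyb
      have : a * (x * b) = a * (b * x) := by rw [hyb, ← mul_assoc, ← p.comm, mul_assoc]
      exact mul_left_cancel this
  · exact fun h => ⟨x, ⟨mem_centralizer_singleton_iff.2 h, hx⟩, rfl⟩

theorem U_le : p.U ≤ FT p.T := by
  rintro v ⟨x, hx, rfl⟩
  rw [mem_FT, p.T_vec hx.2, ← mem_centralizer_singleton_iff.1 hx.1, mul_inv_cancel_right]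

theorem fixed_cases {x : G} (hx : x ∈ S.qof a) (h : p.K.vec x ∈ FT p.T) :
    b * x * b⁻¹ = x ∨ b * x * b⁻¹ = a * x := by
  rw [mem_FT, p.T_vec hx] at h
  exact p.K.eq_or p.HA (p.HA.norm b p.comm.symm x hx) hx h

theorem tw_of_fixed {x : G} (hx : x ∈ S.qof a) (h : p.K.vec x ∈ FT p.T) (hn : p.K.vec x ∉ p.U) : p.Tw := by
  refine ⟨x, hx, ?_⟩
  rw [p.mem_U_iff hx] at hn
  rcases p.fixed_cases hx h with e | e
  · exact absurd (mul_inv_eq_iff_eq_mul.1 e).symm hn
  · have e' : b * x = a * x * b := mul_inv_eq_iff_eq_mul.1 e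
    have e'' : x * b = a * (b * x) := by rw [e', ← mul_assoc, ← mul_assoc, S.X_sq p.ha, one_mul]
    rw [e'', mul_assoc, mul_assoc, mul_inv_cancel, mul_one]

theorem U_eq (h : ¬ p.Tw) : p.U = FT p.T := by
  refine le_antisymm p.U_le fun v hv => ?_
  obtain ⟨x, hx, rfl⟩ := p.K.surj v
  by_contra hn
  exact h (p.tw_of_fixed hx hv hn)

theorem FT_le_two : Nat.card (FT p.T) ≤ 2 * Nat.card p.U := by
  classical
  have key : ∀ v ∈ FT p.T, ∀ w ∈ FT p.T, v ∉ p.U → w ∉ p.U → v + w ∈ p.U := by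
    intro v hv w hw hv' hw'
    obtain ⟨x, hx, rfl⟩ := p.K.surj v
    obtain ⟨y, hy, rfl⟩ := p.K.surj w
    rw [← p.K.mul hx hy, p.mem_U_iff (mul_mem hx hy)]
    rw [p.mem_U_iff hx] at hv'
    rw [p.mem_U_iff hy] at hw'
    have e1 := (p.fixed_cases hx hv).resolve_left fun e => hv' (mul_inv_eq_iff_eq_mul.1 e).symm
    have e2 := (p.fixed_cases hy hw).resolve_left fun e => hw' (mul_inv_eq_iff_eq_mul.1 e).symm
    have e : b * (x * y) * b⁻¹ = x * y := by
      rw [show b * (x * y) * b⁻¹ = b * x * b⁻¹ * (b * y * b⁻¹) by group, e1, e2,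
        ← mul_assoc, mul_assoc a x a, S.qof_comm p.ha hx, ← mul_assoc, S.X_sq p.ha, one_mul]
    exact (mul_inv_eq_iff_eq_mul.1 e).symm
  by_cases hex : ∃ v ∈ FT p.T, v ∉ p.U
  · obtain ⟨v, hv, hv'⟩ := hex
    have hsub : (FT p.T : Set V) ⊆ (p.U : Set V) ∪ (fun u => v + u) '' (p.U : Set V) := by
      intro w hw
      by_cases hwU : w ∈ p.U
      · exact Or.inl hwU
      · exact Or.inr ⟨v + w, key v hv w hw hv' hwU, by show v + (v + w) = w; rw [← add_assoc, addV, zero_add]⟩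
    calc Nat.card (FT p.T) = (FT p.T : Set V).ncard := Nat.card_coe_set_eq _
      _ ≤ ((p.U : Set V) ∪ (fun u => v + u) '' (p.U : Set V)).ncard := Set.ncard_le_ncard hsub
      _ ≤ (p.U : Set V).ncard + ((fun u => v + u) '' (p.U : Set V)).ncard := Set.ncard_union_le _ _
      _ ≤ (p.U : Set V).ncard + (p.U : Set V).ncard := Nat.add_le_add_left Set.ncard_image_le _
      _ = 2 * Nat.card p.U := by rw [← Nat.card_coe_set_eq, two_mul]; rfl
  · push Not at hex
    have := AddSubgroup.card_le_of_le (fun v hv => hex v hv : FT p.T ≤ p.U)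
    omega

theorem LT_inverted {x : G} (hx : x ∈ S.qof a) (h : p.K.vec x ∈ LT p.T) : b * x * b⁻¹ = x⁻¹ := by
  obtain ⟨v, hv⟩ := h
  obtain ⟨q, hq, rfl⟩ := p.K.surj v
  obtain ⟨hm, -, hvec, hinv⟩ := p.twist hq
  rcases p.K.eq_or p.HA hx hm (hv.symm.trans hvec.symm) with rfl | rfl
  · exact hinv
  · rw [show b * (a * (b * q⁻¹ * b * q)) * b⁻¹ = b * a * b⁻¹ * (b * (b * q⁻¹ * b * q) * b⁻¹) by group, hinv,
      ← p.comm, mul_inv_cancel_right]
    generalize b * q⁻¹ * b * q = n at hm ⊢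
    rw [mul_inv_rev, S.X_inv p.ha]
    exact (S.qof_comm p.ha (inv_mem hm)).symm

theorem U_inf_LT {v : V} (h : v ∈ LT p.T) : v ∈ p.U ↔ qV 0 v = 0 := by
  obtain ⟨x, hx, rfl⟩ := p.K.surj v
  have hi := p.LT_inverted hx h
  rw [p.mem_U_iff hx, ← p.K.invol_iff p.HA.extra.ne_one hx]
  constructor
  · intro hc
    rw [← hc, mul_inv_cancel_right] at hi
    conv_lhs => arg 1; rw [hi]
    exact inv_mul_cancel x
  · intro h2
    rw [inv_eq_of_mul_eq_one_right h2] at hi
    exact (mul_inv_eq_iff_eq_mul.1 hi).symm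

theorem LT_ts_le {W : AddSubgroup V} (hW : W ≤ LT p.T) : W ≤ p.U ↔ TS W :=
  ⟨fun h w hw => (p.U_inf_LT (hW hw)).1 (h hw), fun h _ hw => (p.U_inf_LT (hW hw)).2 (h _ hw)⟩

theorem LT_ts (h : ¬ p.Tw) : TS (LT p.T) := (p.LT_ts_le le_rfl).1 (by rw [p.U_eq h]; exact p.invol.LT_le_FT)

theorem perp_U (h : ¬ p.Tw) : perp p.U = LT p.T := by
  rw [p.U_eq h, p.invol.FT_eq, perp_perp]

theorem perp_U_le (h : ¬ p.Tw) : perp p.U ≤ p.U := by
  rw [p.perp_U h, p.U_eq h]; exact p.invol.LT_le_FT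

theorem D_comm {d : G} (hd : d ∈ S.qof b) : d * b = b * d := S.qof_comm p.hb hd

theorem D_le : p.D ≤ p.U := by
  rintro v ⟨x, hx, rfl⟩
  exact (p.mem_U_iff hx.2).2 (p.D_comm hx.1)

theorem D_sq {d : G} (hd : d ∈ S.qof b) (hd' : d ∈ S.qof a) : d * d = 1 := by
  rcases p.HA.extra.sq_cases hd' with e | e
  · exact e
  · exact absurd (e ▸ mul_mem hd hd) p.symm.b_not_mem

theorem D_ts : TS p.D := by
  rintro v ⟨x, hx, rfl⟩
  exact (p.K.invol_iff p.HA.extra.ne_one hx.2).1 (p.D_sq hx.1 hx.2)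

theorem D_perp : p.D ≤ perp p.U := by
  rintro v ⟨d, hd, rfl⟩ u ⟨x, hx, rfl⟩
  rw [B_comm, ← p.K.comm_iff p.HA.extra.ne_one hx.2 hd.2]
  rcases p.HA.extra.conj_cases hx.2 hd.2 with e | e
  · exact mul_inv_eq_iff_eq_mul.1 e
  · refine absurd ?_ p.symm.b_not_mem
    have hc : x * b = b * x := mem_centralizer_singleton_iff.1 hx.1
    have := mul_mem ((S.pre_qof p.hb).norm x hc d hd.1) (inv_mem hd.1)
    rwa [e, mul_inv_cancel_right] at this

theorem D_card_one (h : p.D = ⊥) {x : G} (hx : x ∈ S.qof a) (hx' : x ∈ S.qof b) : x = 1 := by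
  have : p.K.vec x ∈ p.D := ⟨x, ⟨hx', hx⟩, rfl⟩
  rw [h, AddSubgroup.mem_bot, p.K.zero_iff hx] at this
  rcases this with e | e
  · exact e
  · exact absurd (e ▸ hx') p.symm.b_not_mem

theorem X_twist {q : G} (hq : q ∈ S.qof a) : S.X (b * (b * q⁻¹ * b * q)) := by
  rw [← (p.twist hq).2.1]
  have := S.X_conj p.hb q⁻¹
  rwa [inv_inv] at this

theorem twist_not_D {q : G} (hq : q ∈ S.qof a) (hD : b * q⁻¹ * b * q ∈ S.qof b) : b * q⁻¹ * b * q = 1 := by
  have := S.eq_of_mem p.hb (p.X_twist hq) (mul_mem (S.self_mem p.hb) hD)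
  exact mul_eq_left.1 this

/-- Under twisting both lifts of a commutator vector are reached. -/
theorem tw_lift (h : p.Tw) {x : G} (hx : x ∈ S.qof a) (hL : p.K.vec x ∈ LT p.T) :
    ∃ q ∈ S.qof a, b * q⁻¹ * b * q = x := by
  obtain ⟨v, hv⟩ := hL
  obtain ⟨q, hq, rfl⟩ := p.K.surj v
  obtain ⟨hm, -, hvec, -⟩ := p.twist hq
  rcases p.K.eq_or p.HA hm hx (hvec.trans hv) with e | e
  · exact ⟨q, hq, e⟩
  · obtain ⟨r, hr, hrb⟩ := h
    refine ⟨r⁻¹ * q, mul_mem (inv_mem hr) hq, ?_⟩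
    calc b * (r⁻¹ * q)⁻¹ * b * (r⁻¹ * q) = b * q⁻¹ * (r * b * r⁻¹) * q := by
          rw [show b * (r⁻¹ * q)⁻¹ * b * (r⁻¹ * q) = b * q⁻¹ * (r * b * r⁻¹) * q by group]
      _ = b * (q⁻¹ * a) * b * q := by rw [hrb]; group
      _ = (b * a) * q⁻¹ * b * q := by rw [S.qof_comm p.ha (inv_mem hq)]; group
      _ = a * (b * q⁻¹ * b * q) := by rw [← p.comm]; group
      _ = x := by rw [e, ← mul_assoc, S.X_sq p.ha, one_mul]

theorem tw_D_inf (h : p.Tw) {v : V} (hD : v ∈ p.D) (hL : v ∈ LT p.T) : v = 0 := by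
  obtain ⟨x, hx, rfl⟩ := hD
  obtain ⟨q, hq, e⟩ := p.tw_lift h hx.2 hL
  have := p.twist_not_D hq (e.symm ▸ hx.1)
  rw [e] at this
  rw [this, p.K.vec_one]

/-- Without twisting the lift of a commutator vector is unique. -/
theorem lift_unique (h : ¬ p.Tw) {q q' : G} (hq : q ∈ S.qof a) (hq' : q' ∈ S.qof a)
    (hv : mv p.T (p.K.vec q) = mv p.T (p.K.vec q')) : b * q⁻¹ * b * q = b * q'⁻¹ * b * q' := by
  have hfix : p.K.vec (q * q'⁻¹) ∈ FT p.T := by
    rw [p.K.mul hq (inv_mem hq'), p.K.vec_inv hq']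
    show mv p.T _ = 0
    rw [map_add, hv, addV]
  have hc := (p.mem_U_iff (mul_mem hq (inv_mem hq'))).1 (by rw [p.U_eq h]; exact hfix)
  calc b * q⁻¹ * b * q = b * q⁻¹ * (b * (q * q'⁻¹)) * q' := by group
    _ = b * q'⁻¹ * b * q' := by rw [← hc]; group

/-- A square root of `b` in its extraspecial subgroup, centralizing `a`. -/
def Sq (_p : S.Pair a b) : Prop := ∃ r ∈ S.qof b, r * a = a * r ∧ r * r = b

/-- The centralizer of `a` in the extraspecial subgroup at `b` fixes the common part. -/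
theorem root_fix {r : G} (hr : r ∈ S.qof b) (hra : r * a = a * r) :
    ∀ d ∈ p.D, actHom p.K p.HA hra d = d := by
  rintro v ⟨d, hd, rfl⟩
  rw [actHom_vec _ _ _ hd.2]
  rcases (S.pre_qof p.hb).extra.conj_cases hr hd.1 with e | e
  · rw [e]
  · refine absurd ?_ p.b_not_mem
    have := mul_mem (p.HA.norm r hra d hd.2) (inv_mem hd.2)
    rwa [e, mul_inv_cancel_right] at this

/-- The centralizer of `a` in the extraspecial subgroup at `b` moves `U` into the common part. -/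
theorem root_move {r : G} (hr : r ∈ S.qof b) (hra : r * a = a * r) :
    ∀ u ∈ p.U, actHom p.K p.HA hra u + u ∈ p.D := by
  rintro v ⟨x, hx, rfl⟩
  have hx' : x * b = b * x := mem_centralizer_singleton_iff.1 hx.1
  have hx2 : x ∈ S.qof a := hx.2
  have hm : r * x * r⁻¹ * x⁻¹ ∈ S.qof a := mul_mem (p.HA.norm r hra x hx2) (inv_mem hx2)
  refine ⟨r * x * r⁻¹ * x⁻¹, ⟨?_, hm⟩, ?_⟩
  · have := mul_mem hr ((S.pre_qof p.hb).norm x hx' r⁻¹ ((S.qof b).inv_mem hr))
    rwa [show r * (x * r⁻¹ * x⁻¹) = r * x * r⁻¹ * x⁻¹ by group] at this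
  · rw [p.K.mul (p.HA.norm r hra x hx2) (inv_mem hx2), p.K.vec_inv hx2, actHom_vec _ _ _ hx2]

theorem chain {r : G} (hr : r ∈ S.qof b) (hra : r * a = a * r) (hrr : r * r = b) :
    Chain p.T (actHom p.K p.HA hra) p.U p.D where
  q := fun v => p.K.act_q p.HA hra v
  sq := fun v => by
    show p.K.act r (p.K.act r v) = p.K.act b v
    rw [← p.K.act_mul p.HA hra hra, hrr]
  le := p.D_le
  fix := p.root_fix hr hra
  move := p.root_move hr hra

/-- The number of elements of a subgroup of the extraspecial subgroup containing its centre. -/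
theorem card_img {R : Subgroup G} (hR : R ≤ S.qof a) (ha : a ∈ R) :
    Nat.card R = 2 * Nat.card (img p.K R) := by
  classical
  let f : ↥R →* Multiplicative V :=
    { toFun := fun x => Multiplicative.ofAdd (p.K.vec (x : G))
      map_one' := by simp [p.K.vec_one]
      map_mul' := fun x y => by simp [p.K.mul (hR x.2) (hR y.2)] }
  have hker : Nat.card f.ker = 2 := by
    have e : f.ker.map R.subtype = zpowers a := by
      ext x
      rw [p.HA.extra.mem_zpowers_z]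
      constructor
      · rintro ⟨y, hy, rfl⟩
        exact (p.K.zero_iff (hR y.2)).1 (Multiplicative.ofAdd.injective hy)
      · intro hx
        have hxR : x ∈ R := by
          rcases hx with rfl | rfl
          exacts [one_mem _, ha]
        exact ⟨⟨x, hxR⟩, congrArg Multiplicative.ofAdd ((p.K.zero_iff (hR hxR)).2 hx), rfl⟩
    rw [← Subgroup.card_map_of_injective (f := R.subtype) Subtype.val_injective, e, Nat.card_zpowers, p.HA.hz]
  have hrange : Nat.card f.range = Nat.card (img p.K R) := by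
    refine Nat.card_congr ⟨fun y => ⟨Multiplicative.toAdd y.1, ?_⟩, fun v => ⟨Multiplicative.ofAdd v.1, ?_⟩,
      fun y => rfl, fun v => rfl⟩
    · obtain ⟨x, hx⟩ := y.2
      exact ⟨x, ⟨x.2, hR x.2⟩, by rw [← hx]; rfl⟩
    · obtain ⟨x, hx, hv⟩ := v.2
      exact ⟨⟨x, hx.1⟩, congrArg Multiplicative.ofAdd hv⟩
  rw [Subgroup.card_eq_card_quotient_mul_card_subgroup f.ker,
    Nat.card_congr (QuotientGroup.quotientKerEquivRange f).toEquiv, hker, hrange, mul_comm]

theorem img_inf (R : Subgroup G) : img p.K (R ⊓ S.qof a) = img p.K R := by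
  ext v
  exact ⟨fun ⟨x, hx, e⟩ => ⟨x, ⟨hx.1.1, hx.2⟩, e⟩, fun ⟨x, hx, e⟩ => ⟨x, ⟨⟨hx.1, hx.2⟩, hx.2⟩, e⟩⟩

theorem card_cent : Nat.card ↥(centralizer ({b} : Set G) ⊓ S.qof a) = 2 * Nat.card p.U := by
  rw [p.card_img inf_le_right ⟨mem_centralizer_singleton_iff.2 p.comm, S.self_mem p.ha⟩, p.img_inf]
  rfl

theorem card_D : Nat.card ↥(S.qof b ⊓ S.qof a) = Nat.card p.D := by
  refine Nat.card_congr (Equiv.ofBijective (fun x => ⟨p.K.vec (x : G), ⟨x.1, x.2, rfl⟩⟩)
    ⟨fun x y e => ?_, fun ⟨v, x, hx, hv⟩ => ⟨⟨x, hx⟩, Subtype.ext hv⟩⟩)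
  rcases p.K.eq_or p.HA x.2.2 y.2.2 (congrArg Subtype.val e) with e' | e'
  · exact Subtype.ext e'
  · refine absurd ?_ p.symm.b_not_mem
    have hy : (y : G) ∈ S.qof b := y.2.1
    have h2 := mul_mem (show (x : G) ∈ S.qof b from x.2.1) (inv_mem hy)
    rwa [e', mul_inv_cancel_right] at h2

/-- A vector of `U` that is not singular gives a square root of `a`. -/
theorem sq_symm (h : ¬ TS p.U) : p.symm.Sq := by
  rw [TS] at h
  push Not at h
  obtain ⟨v, ⟨x, hx, rfl⟩, hv⟩ := h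
  refine ⟨x, hx.2, mem_centralizer_singleton_iff.1 hx.1, ?_⟩
  rw [p.K.sq hx.2, if_neg hv]

end Std.Pair

end CfsgLib.CoOneUnique.Fus
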