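import Mathlib
import Cfsg.Agent.Lib.CoOneUnique.Fus.Pairs

/-!
The part of the centralizer of `a` fixing the involutory isometry of `b` fixes `b` or moves it to `a * b`, up
to the extraspecial subgroup; consequence: the common part of the two extraspecial subgroups is trivial when
the fixed space is totally singular.
-/

set_option autoImplicit false
set_option linter.style.longLine false
set_option linter.unusedSectionVars false
set_option synthInstance.maxSize 8000
set_option synthInstance.maxHeartbeats 1000000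
set_option maxHeartbeats 1000000

namespace CfsgLib.CoOneUnique.Fus.Std.Pair

open Subgroup CfsgLib.CoOneType

variable {G : Type*} [Group G] [Finite G] {S : Std G} {a b : G} (p : S.Pair a b)
include p

theorem image_le (h : ¬ p.Tw) (hs : p.Sq) {v : V} (hv : v ∈ perp p.D) : mv p.T v ∈ p.D := by
  obtain ⟨r, hr, hra, hrr⟩ := hs
  exact (p.chain hr hra hrr).image (p.perp_U_le h) hv

theorem stab_cases (h : ¬ p.Tw) {c : G} (hc : c * a = a * c)
    (hcT : ∀ v, p.K.act c (p.T v) = p.T (p.K.act c v)) :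
    ∃ c', c' * a = a * c' ∧ (∀ v, p.K.act c' v = p.K.act c v) ∧
      (c' * b * c'⁻¹ = b ∨ c' * b * c'⁻¹ = a * b) := by
  have hb2 := S.X_sq p.hb
  have hci : c⁻¹ * a = a * c⁻¹ := (Commute.inv_left hc).eq
  have hcb : c * b * c⁻¹ * a = a * (c * b * c⁻¹) := by
    have := (p.conj c).comm
    rw [show c * a * c⁻¹ = a by rw [hc, mul_inv_cancel_right]] at this
    exact this.symm
  set x := b * (c * b * c⁻¹) with hx
  have hxc : x * a = a * x := by rw [hx, mul_assoc, hcb, ← mul_assoc, ← p.comm, mul_assoc]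
  have hxQ : x ∈ S.qof a := by
    refine p.K.mem_of_act p.HA hxc fun v => ?_
    rw [hx, p.K.act_mul p.HA p.comm.symm hcb, p.K.act_mul p.HA (show c * b * a = a * (c * b) by
        rw [mul_assoc, ← p.comm, ← mul_assoc, hc, mul_assoc]) hci, p.K.act_mul p.HA hc p.comm.symm]
    show p.T (p.K.act c (p.T (p.K.act c⁻¹ v))) = v
    rw [hcT, p.invol.inv, ← p.K.act_mul p.HA hc hci, mul_inv_cancel, p.K.act_one p.HA]
  -- `x` commutes with the centralizer of `b`
  have hU : p.K.vec x ∈ LT p.T := by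
    rw [← p.perp_U h]
    intro u hu
    obtain ⟨y, hy, rfl⟩ := p.K.surj u
    have hyb := (p.mem_U_iff hy).1 hu
    have hy' : c⁻¹ * y * c ∈ S.qof a := by
      have := p.HA.norm c⁻¹ hci y hy
      rwa [inv_inv] at this
    have hfix : p.K.vec (c⁻¹ * y * c) ∈ FT p.T := by
      have hval : p.K.vec (c⁻¹ * y * c) = p.K.act c⁻¹ (p.K.vec y) := by
        rw [p.K.act_vec p.HA hci hy, inv_inv]
      rw [mem_FT, hval]
      refine p.K.act_injective p.HA hc ?_
      rw [hcT, ← p.K.act_mul p.HA hc hci, mul_inv_cancel, p.K.act_one p.HA]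
      exact mem_FT.1 (p.U_le hu)
    have hyc : c⁻¹ * y * c * b = b * (c⁻¹ * y * c) := (p.mem_U_iff hy').1 (by rw [p.U_eq h]; exact hfix)
    rw [← p.K.comm_iff p.HA.extra.ne_one hxQ hy]
    have e1 : Commute y (c * b * c⁻¹) := by
      show y * (c * b * c⁻¹) = c * b * c⁻¹ * y
      calc y * (c * b * c⁻¹) = c * (c⁻¹ * y * c * b) * c⁻¹ := by group
        _ = c * b * c⁻¹ * y := by rw [hyc]; group
    exact ((show Commute y b from hyb).mul_right e1).symm.eq
  obtain ⟨v, hv⟩ := hU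
  obtain ⟨q, hq, rfl⟩ := p.K.surj v
  obtain ⟨hm, hconj, hvec, -⟩ := p.twist hq
  have hqa : q * a = a * q := S.qof_comm p.ha hq
  refine ⟨q * c, by rw [mul_assoc, hc, ← mul_assoc, hqa, mul_assoc], fun w => ?_, ?_⟩
  · rw [p.K.act_mul p.HA hqa hc, p.K.act_mem p.HA hq]
  · have hcbc : c * b * c⁻¹ = b * x := by rw [hx, ← mul_assoc, hb2, one_mul]
    rw [show q * c * b * (q * c)⁻¹ = q * (c * b * c⁻¹) * q⁻¹ by group, hcbc]
    rcases p.K.eq_or p.HA hxQ hm (hv.symm.trans hvec.symm) with e | e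
    · left
      rw [e, ← hconj]; group
    · right
      rw [e, ← mul_assoc b a, ← p.comm, mul_assoc a, ← hconj,
        show q * (a * (q⁻¹ * b * q)) * q⁻¹ = (q * a * q⁻¹) * b by group, hqa, mul_inv_cancel_right]

/-- The square of an element with the two possible images fixes `b`. -/
theorem sq_fix {h : G} (ha : h * a = a * h) (hb : h * b * h⁻¹ = b ∨ h * b * h⁻¹ = a * b) :
    h * h * b * (h * h)⁻¹ = b := by
  rw [show h * h * b * (h * h)⁻¹ = h * (h * b * h⁻¹) * h⁻¹ by group]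
  rcases hb with e | e
  · rw [e, e]
  · rw [e, show h * (a * b) * h⁻¹ = h * a * h⁻¹ * (h * b * h⁻¹) by group, e, ha, mul_inv_cancel_right,
      ← mul_assoc, S.X_sq p.ha, one_mul]

theorem D_stable {c : G} (hc : c * a = a * c) (hb : c * b * c⁻¹ = b) {d : V} (hd : d ∈ p.D) :
    p.K.act c d ∈ p.D := by
  obtain ⟨x, hx, rfl⟩ := hd
  refine ⟨c * x * c⁻¹, ⟨(S.pre_qof p.hb).norm c (mul_inv_eq_iff_eq_mul.1 hb) x hx.1, p.HA.norm c hc x hx.2⟩, ?_⟩
  rw [p.K.act_vec p.HA hc hx.2]

theorem D_small (h : ¬ p.Tw) (hts : TS p.U) : Nat.card p.D ≤ 4 := by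
  classical
  by_contra hcard
  push Not at hcard
  have hL : p.D ≤ LT p.T := by
    rw [← p.perp_U h]; exact p.D_perp
  have hF : p.D ≤ FT p.T := p.D_le.trans p.U_le
  -- the rule for two elements of `D`
  have key : ∀ q q' : G, q ∈ S.qof a → q' ∈ S.qof a → mv p.T (p.K.vec q) ∈ p.D → mv p.T (p.K.vec q') ∈ p.D →
      mv p.T (p.K.vec q) ≠ 0 → mv p.T (p.K.vec q') ≠ 0 → mv p.T (p.K.vec q) ≠ mv p.T (p.K.vec q') →
      B (mv p.T (p.K.vec q)) (p.K.vec q') = 1 := by
    intro q q' hq hq' hd hd' h0 h0' hne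
    obtain ⟨hm, -, hv, -⟩ := p.twist hq
    obtain ⟨hm', -, hv', -⟩ := p.twist hq'
    obtain ⟨d, hdm, hdv⟩ := hd
    obtain ⟨d', hdm', hdv'⟩ := hd'
    have lift_eq : ∀ {q d : G}, q ∈ S.qof a → d ∈ S.qof b ⊓ S.qof a → b * q⁻¹ * b * q ∈ S.qof a →
        p.K.vec (b * q⁻¹ * b * q) = p.K.vec d → p.K.vec d ≠ 0 → b * q⁻¹ * b * q = a * d := by
      intro q d hq hd hm e hne0
      rcases p.K.eq_or p.HA hm hd.2 e with e' | e'
      · have := p.twist_not_D hq (e'.symm ▸ hd.1)
        rw [e'] at this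
        exact absurd (by rw [this, p.K.vec_one]) hne0
      · exact e'
    have e1 := lift_eq hq hdm hm (hv.trans hdv.symm) (hdv.symm ▸ h0)
    have e2 := lift_eq hq' hdm' hm' (hv'.trans hdv'.symm) (hdv'.symm ▸ h0')
    by_contra hB
    have hB0 := (zcases _).resolve_right hB
    rw [← hv, ← p.K.comm_iff p.HA.extra.ne_one hm hq'] at hB0
    have hs : b * (q * q')⁻¹ * b * (q * q') = d' * d := by
      calc b * (q * q')⁻¹ * b * (q * q') = (b * q'⁻¹ * b) * (b * b) * (b * q⁻¹ * b * q) * q' := by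
            rw [S.X_sq p.hb, mul_one, mul_inv_rev]
            calc b * (q'⁻¹ * q⁻¹) * b * (q * q') = b * q'⁻¹ * (q⁻¹ * b * q) * q' := by group
              _ = b * q'⁻¹ * ((b * b) * (q⁻¹ * b * q)) * q' := by rw [S.X_sq p.hb, one_mul]
              _ = _ := by group
        _ = (b * q'⁻¹ * b) * (b * b) * (q' * (b * q⁻¹ * b * q)) := by rw [mul_assoc, hB0]
        _ = (b * q'⁻¹ * b * q') * (b * q⁻¹ * b * q) := by rw [S.X_sq p.hb]; group
        _ = a * d' * (a * d) := by rw [e1, e2]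
        _ = d' * d := by
          rw [show a * d' * (a * d) = a * (d' * a) * d by group, S.qof_comm p.ha hdm'.2, ← mul_assoc,
            S.X_sq p.ha, one_mul]
    have := p.twist_not_D (mul_mem hq hq') (hs ▸ mul_mem hdm'.1 hdm.1)
    rw [hs] at this
    have e3 : p.K.vec d = p.K.vec d' := by
      rw [← p.K.vec_inv hdm.2, ← eq_inv_of_mul_eq_one_left this]
    exact hne (hdv.symm.trans (e3.trans hdv'))
  have pre : ∀ d ∈ p.D, ∃ q ∈ S.qof a, mv p.T (p.K.vec q) = d := fun d hd => by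
    obtain ⟨v, hv⟩ := hL hd
    obtain ⟨q, hq, rfl⟩ := p.K.surj v
    exact ⟨q, hq, hv⟩
  have big : ∀ s : Finset V, s.card ≤ 4 → ∃ u ∈ p.D, u ∉ s := fun s hs => by
    by_contra hh
    push Not at hh
    have := Finset.card_le_card (s := (p.D : Set V).toFinset) (t := s) fun x hx => hh x (Set.mem_toFinset.1 hx)
    rw [Set.toFinset_card, ← Nat.card_eq_fintype_card] at this
    simp only [SetLike.coe_sort_coe] at this
    omega
  obtain ⟨d1, hd1, n1⟩ := big {0} (by simp)
  simp only [Finset.mem_singleton] at n1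
  obtain ⟨d2, hd2, n2⟩ := big {0, d1} (by have := Finset.card_le_two (a := (0 : V)) (b := d1); omega)
  simp only [Finset.mem_insert, Finset.mem_singleton, not_or] at n2
  obtain ⟨d3, hd3, n3⟩ := big {0, d1, d2, d1 + d2} Finset.card_le_four
  simp only [Finset.mem_insert, Finset.mem_singleton, not_or] at n3
  obtain ⟨q1, hq1, e1⟩ := pre d1 hd1
  obtain ⟨q2, hq2, e2⟩ := pre d2 hd2
  obtain ⟨q3, hq3, e3⟩ := pre d3 hd3
  obtain ⟨q4, hq4, e4⟩ := pre (d1 + d2) (add_mem hd1 hd2)
  have h4 : d1 + d2 ≠ 0 := fun e => n2.2 (eqV e).symm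
  have k1 := key q1 q3 hq1 hq3 (e1 ▸ hd1) (e3 ▸ hd3) (e1 ▸ n1) (e3 ▸ n3.1) (by rw [e1, e3]; exact fun e => n3.2.1 e.symm)
  have k2 := key q2 q3 hq2 hq3 (e2 ▸ hd2) (e3 ▸ hd3) (e2 ▸ n2.1) (e3 ▸ n3.1) (by rw [e2, e3]; exact fun e => n3.2.2.1 e.symm)
  have k4 := key q4 q3 hq4 hq3 (e4 ▸ add_mem hd1 hd2) (e3 ▸ hd3) (e4 ▸ h4) (e3 ▸ n3.1) (by rw [e4, e3]; exact fun e => n3.2.2.2 e.symm)
  rw [e1] at k1
  rw [e2] at k2
  rw [e4, B_add_left, k1, k2] at k4
  exact absurd k4 (by decide)

/-- When the fixed space is totally singular the common part is trivial. -/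
theorem D_bot (h : ¬ p.Tw) (hts : TS p.U) : p.D = ⊥ := by
  classical
  by_contra hD
  obtain ⟨d, hd, hd0⟩ := (AddSubgroup.ne_bot_iff_exists_ne_zero.1 hD : ∃ x : p.D, x ≠ 0) |> fun ⟨x, hx⟩ =>
    (⟨x.1, x.2, fun e => hx (Subtype.ext e)⟩ : ∃ d ∈ p.D, d ≠ 0)
  have hLF : LT p.T = FT p.T := by
    refine le_antisymm p.invol.LT_le_FT ?_
    have h1 : FT p.T ≤ perp (FT p.T) := TS.le_perp (by rw [← p.U_eq h]; exact hts)
    rw [p.invol.FT_eq, perp_perp] at h1
    rw [p.invol.FT_eq]
    exact h1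
  have hc16 : Nat.card (LT p.T) = 16 := by
    have := card_LT_FT p.T
    rw [← hLF] at this
    nlinarith
  have hL : p.D ≤ LT p.T := by rw [← p.perp_U h]; exact p.D_perp
  obtain ⟨vd, hvd⟩ := hL hd
  -- an element inducing the transvection at a commutator vector
  have trans : ∀ m ∈ LT p.T, m ≠ 0 → ∃ (w : V) (c : G), mv p.T w = m ∧ c * a = a * c ∧
      (∀ v, p.K.act c (p.T v) = p.T (p.K.act c v)) ∧ ∀ x ∈ LT p.T, p.K.act c x = x + B x w • m := by
    intro m hm hm0
    obtain ⟨w0, hw0⟩ := hm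
    have hnp : w0 ∉ FT p.T := fun e => hm0 (hw0.symm.trans e)
    obtain ⟨x, hx, hB⟩ : ∃ x ∈ LT p.T, B w0 x ≠ 0 := by
      by_contra hh
      push Not at hh
      exact hnp (p.invol.FT_eq.symm.le hh)
    have hqx : qV 0 x = 0 := p.LT_ts h x hx
    obtain ⟨w, hw, hwm⟩ : ∃ w, qV 0 w = 1 ∧ mv p.T w = m := by
      rcases zcases (qV 0 w0) with e | e
      · refine ⟨w0 + x, ?_, ?_⟩
        · rw [qV_add, e, hqx, eq_one hB, zero_add, zero_add]
        · rw [map_add, hw0, show mv p.T x = 0 from p.invol.LT_le_FT hx, add_zero]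
      · exact ⟨w0, e, hw0⟩
    have hqm : qV 0 m = 0 := p.LT_ts h m ⟨w, hwm⟩
    have hBm : B w m = 0 := by rw [← hwm]; exact p.invol.self_orth (by rw [hwm]; exact hqm)
    have hTw : p.T w = w + m := by rw [T_eq, hwm]
    have hBT : B w (p.T w) = 0 := by rw [hTw, B_add_right, B_self, hBm, add_zero]
    obtain ⟨c, hc, hcv⟩ := p.K.pair p.HA hw (b := p.T w) (by rw [p.invol.q]; exact hw)
    refine ⟨w, c, hwm, hc, fun v => ?_, fun y hy => ?_⟩
    · have hTr : ∀ z u, p.T (CoOneType.refl z u) = CoOneType.refl (p.T z) (p.T u) := fun z u => by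
        rw [CoOneType.refl, map_add, CoOneType.refl, isometry_B p.invol.q]
        rcases zcases (B u z) with e | e <;> simp [e]
      rw [hcv, hcv, hTr, hTr, p.invol.inv]
      have hBT' : B (p.T w) w = 0 := by rw [B_comm]; exact hBT
      rcases zcases (B (p.T v) w) with e | e <;> rcases zcases (B (p.T v) (p.T w)) with e' | e' <;>
        simp [CoOneType.refl, e, e', B_add_left, B_zero_left, hBT, hBT', add_assoc, add_comm, add_left_comm]
    · have hyT : B y (p.T w) = B y w := by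
        conv_lhs => rw [← mem_FT.1 (p.invol.LT_le_FT hy)]
        rw [isometry_B p.invol.q]
      rw [hcv, CoOneType.refl, CoOneType.refl, hyT, B_add_left, B_comm (B y w • p.T w) w]
      rcases zcases (B y w) with e | e
      · simp [e, B_zero_right]
      · simp only [e, one_smul, hBT, add_zero]
        rw [hTw, show y + (w + m) + w = y + m + (w + w) by abel, addV, add_zero]
  -- every commutator vector moved by the preimage of `d` lies in `D`
  have hin : ∀ m ∈ LT p.T, B m vd = 1 → m ∈ p.D := by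
    intro m hm hB
    have hm0 : m ≠ 0 := fun e => by rw [e, B_zero_left] at hB; exact zero_ne_one hB
    have hBd : B d vd = 0 := by
      rw [B_comm, ← hvd]; exact p.invol.self_orth (by rw [hvd]; exact p.D_ts d hd)
    have hdm : m ≠ d := fun e => by rw [e, hBd] at hB; exact zero_ne_one hB
    obtain ⟨w', hw'⟩ := exists_B_one m hm0
    obtain ⟨w'', hw''⟩ := exists_B_one (m + d) fun e => hdm (eqV e)
    rw [B_add_right] at hw''
    obtain ⟨vn, hn1, hn2⟩ : ∃ vn, B vn d = 0 ∧ B vn m = 1 := by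
      rcases zcases (B w' d) with e | e
      · exact ⟨w', e, hw'⟩
      · rcases zcases (B w'' d) with e' | e'
        · exact ⟨w'', e', by rw [e', add_zero] at hw''; exact hw''⟩
        · exact ⟨w' + w'', by rw [B_add_left, e, e']; rfl, by
            rw [B_add_left, hw']
            rw [e'] at hw''
            rcases zcases (B w'' m) with f | f
            · rw [f]; rfl
            · rw [f] at hw''; exact absurd hw'' (by decide)⟩
    have hn0 : mv p.T vn ≠ 0 := fun e => by
      obtain ⟨vm, hvm⟩ := hm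
      rw [← hvm, ← p.invol.adj, e, B_zero_left] at hn2
      exact zero_ne_one hn2
    obtain ⟨w1, c1, hw1, hc1, hT1, hc1x⟩ := trans m hm hm0
    obtain ⟨w2, c2, hw2, hc2, hT2, hc2x⟩ := trans _ (mv_mem_LT _ vn) hn0
    have hca : c2 * c1 * a = a * (c2 * c1) := (Commute.mul_left hc2 hc1).eq
    have hcT : ∀ v, p.K.act (c2 * c1) (p.T v) = p.T (p.K.act (c2 * c1) v) := fun v => by
      rw [p.K.act_mul p.HA hc2 hc1, p.K.act_mul p.HA hc2 hc1, hT1, hT2]
    obtain ⟨e, hea, hev, heb⟩ := p.stab_cases h hca hcT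
    have hmem := p.D_stable (Commute.mul_left hea hea).eq (p.sq_fix hea heb) hd
    -- compute the image
    have sym : ∀ {x y : V}, B (mv p.T x) y = B (mv p.T y) x := fun {x y} => by rw [p.invol.adj, B_comm]
    have a1 : B d w1 = 1 := by rw [← hvd, sym, hw1]; exact hB
    have a2 : B d w2 = 0 := by rw [← hvd, sym, hw2, ← sym, hvd, B_comm]; exact hn1
    have a3 : B m w2 = 1 := by rw [← hw1, sym, hw2, ← sym, hw1, B_comm]; exact hn2
    have a4 : B (mv p.T vn) w1 = 1 := by rw [sym, hw1, B_comm]; exact hn2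
    have a5 : B m w1 = 0 := by
      rw [B_comm, ← hw1]; exact p.invol.self_orth (p.LT_ts h _ (mv_mem_LT _ _))
    have a6 : B (mv p.T vn) w2 = 0 := by
      rw [← hw2, B_comm]; exact p.invol.self_orth (p.LT_ts h _ (mv_mem_LT _ _))
    have hmL : m ∈ LT p.T := hm
    have step : ∀ x ∈ LT p.T, p.K.act (c2 * c1) x =
        (x + B x w1 • m) + B (x + B x w1 • m) w2 • mv p.T vn := fun x hx => by
      rw [p.K.act_mul p.HA hc2 hc1, hc1x x hx, hc2x _ (add_mem hx (smul_mem_sub _ _ hmL))]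
    have s1 : p.K.act e d = d + m + mv p.T vn := by
      rw [hev, step d (hL hd), a1, one_smul, B_add_left, a2, a3, zero_add, one_smul]
    have s2 : p.K.act (e * e) d = d + m := by
      rw [p.K.act_mul p.HA hea hea, s1, hev, step _ (add_mem (add_mem (hL hd) hmL) (mv_mem_LT _ _))]
      simp only [B_add_left, a1, a2, a3, a4, a5, a6, show (1 : ZMod 2) + 1 = 0 from rfl, add_zero, zero_add,
        zero_smul, one_smul, B_zero_left]
      rw [add_assoc (d + m), addV, add_zero]
    rw [s2] at hmem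
    have := add_mem hd hmem
    rwa [← add_assoc, addV, zero_add] at this
  obtain ⟨m0, hm0, hB0⟩ : ∃ m0 ∈ LT p.T, B m0 vd = 1 := by
    by_contra hh
    refine hd0 (hvd.symm.trans (p.invol.FT_eq.symm.le (show vd ∈ perp (LT p.T) from fun u hu => ?_)))
    rw [B_comm]
    exact (zcases _).resolve_right fun e => hh ⟨u, hu, e⟩
  have hm0D := hin m0 hm0 hB0
  have hle : LT p.T ≤ p.D := fun x hx => by
    rcases zcases (B x vd) with e | e
    · have := add_mem (hin (x + m0) (add_mem hx hm0) (by rw [B_add_left, e, hB0, zero_add])) hm0D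
      rwa [add_assoc, addV, add_zero] at this
    · exact hin x hx e
  have := AddSubgroup.card_le_of_le hle
  have := p.D_small h hts
  omega

theorem not_sq_of_ts (h : ¬ p.Tw) (hts : TS p.U) : ¬ p.Sq := by
  intro hs
  have hD := p.D_bot h hts
  obtain ⟨v, hv⟩ := p.nontriv
  refine hv (mem_FT.1 ?_)
  show mv p.T v = 0
  have := p.image_le h hs (v := v) (by rw [hD]; exact fun u hu => by rw [AddSubgroup.mem_bot.1 hu, B_zero_right])
  rwa [hD, AddSubgroup.mem_bot] at this

end CfsgLib.CoOneUnique.Fus.Std.Pair
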