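import Mathlib
import Cfsg.Agent.Lib.CoOneUnique.Fus.Stab
import Cfsg.Agent.Lib.CoOneUnique.Fus.LineModel

/-!
Both sides induce transvections of a totally singular line without twisting: impossible, since the image of one
centralizer on the residue of the line would be a small subgroup invariant under the full stabilizer.
-/

set_option autoImplicit false
set_option linter.style.longLine false
set_option linter.unusedSectionVars false
set_option synthInstance.maxSize 8000
set_option synthInstance.maxHeartbeats 1000000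
set_option maxHeartbeats 2000000

namespace CfsgLib.CoOneUnique.Fus.Std.Pair

open Subgroup CfsgLib.CoOneType

variable {G : Type*} [Group G] [Finite G] {S : Std G} {a b : G} (p : S.Pair a b)
include p

theorem line_card (h : ¬ p.Tw) (hn : ¬ TS p.U) : Nat.card (LT p.T) = 4 ∧ Nat.card p.U = 64 := by
  have hF := card_LT_FT p.T
  rcases p.invol.card_LT (p.LT_ts h) p.nontriv with e | e
  · exact ⟨e, by rw [p.U_eq h]; rw [e] at hF; omega⟩
  · refine absurd ?_ hn
    rw [p.U_eq h, ← AddSubgroup.eq_of_le_of_card_ge p.invol.LT_le_FT (by rw [e] at hF ⊢; omega)]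
    exact p.LT_ts h

theorem D_eq_line (h : ¬ p.Tw) (hs : p.Sq) (h4 : Nat.card (LT p.T) = 4) : p.D = LT p.T := by
  have hle : p.D ≤ LT p.T := by rw [← p.perp_U h]; exact p.D_perp
  refine AddSubgroup.eq_of_le_of_card_ge hle ?_
  by_contra hlt
  push Not at hlt
  have hD2 : Nat.card p.D ≤ 2 := by
    obtain ⟨k, -, hk⟩ := card_cases p.D
    rcases k with _ | _ | k
    · rw [pow_zero] at hk; omega
    · rw [show 0 + 1 = 1 from rfl, pow_one] at hk; omega
    · have : 2 ^ 2 ≤ 2 ^ (k + 2) := Nat.pow_le_pow_right (by norm_num) (by omega)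
      omega
  obtain ⟨r, hr, hra, hrr⟩ := hs
  have C := p.chain hr hra hrr
  -- a vector orthogonal to `D` moved by `T`
  obtain ⟨v, hv, hv0⟩ : ∃ v ∈ perp p.D, v ∉ FT p.T := by
    by_contra hh
    push Not at hh
    have h1 := perp_anti (fun v hv => hh v hv : perp p.D ≤ FT p.T)
    rw [p.invol.FT_eq, perp_perp, perp_perp] at h1
    have := AddSubgroup.card_le_of_le h1
    omega
  set S' := actHom p.K p.HA hra with hS'
  have heL : S' v + v ∈ LT p.T := by rw [← p.perp_U h]; exact C.orth hv
  set e := S' v + v with he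
  have hSv : S' v = v + e := by rw [he, add_left_comm, addV, add_zero]
  have hBe : B v e = 0 := by
    have hq := C.q v
    rw [hSv, qV_add, p.LT_ts h e heL, add_zero, add_eq_left] at hq
    exact hq
  have heD : e ∈ p.D := by
    by_contra hne
    refine hv0 (p.invol.FT_eq.symm.le fun u hu => ?_)
    by_cases huD : u ∈ p.D
    · exact hv u huD
    · have hsum := add_mem_of_card_two hle (by
        by_contra hc
        push Not at hc
        have hD1 : Nat.card p.D = 1 := by
          have : 0 < Nat.card p.D := Nat.card_pos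
          omega
        -- a commutator space of order four cannot contain a trivial common part
        have hbot : p.D = ⊥ := AddSubgroup.eq_bot_of_card_eq _ hD1
        obtain ⟨v', hv'⟩ := p.nontriv
        refine hv' (mem_FT.1 ?_)
        show mv p.T v' = 0
        have := p.image_le h ⟨r, hr, hra, hrr⟩ (v := v')
          (by rw [hbot]; exact fun u hu => by rw [AddSubgroup.mem_bot.1 hu, B_zero_right])
        rwa [hbot, AddSubgroup.mem_bot] at this) hu heL huD hne
      have := hv _ hsum
      rwa [B_add_right, hBe, add_zero] at this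
  refine hv0 (mem_FT.2 ?_)
  rw [← C.sq, hSv, map_add, hSv, C.fix e heD, add_assoc, addV, add_zero]

theorem no_lines (h1 : ¬ p.Tw) (h2 : ¬ p.symm.Tw) (n1 : ¬ TS p.U) (n2 : ¬ TS p.symm.U) : False := by
  classical
  obtain ⟨hL, hU⟩ := p.line_card h1 n1
  obtain ⟨-, hU'⟩ := p.symm.line_card h2 n2
  obtain ⟨r0, hr0, hr0a, hr0b⟩ := p.symm.sq_symm n2
  have hD := p.D_eq_line h1 ⟨r0, hr0, hr0a, hr0b⟩ hL
  -- coordinates adapted to the line
  obtain ⟨u1, hu1, hu10, u2, hu2, hu20, hu12, hmem⟩ : ∃ u1 ∈ LT p.T, u1 ≠ 0 ∧ ∃ u2 ∈ LT p.T, u2 ≠ 0 ∧ u1 ≠ u2 ∧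
      ∀ u ∈ LT p.T, u = 0 ∨ u = u1 ∨ u = u2 ∨ u = u1 + u2 := by
    have big : ∀ s : Finset V, s.card < 4 → ∃ u ∈ LT p.T, u ∉ s := fun s hs => by
      by_contra hh
      push Not at hh
      have := Finset.card_le_card (s := (LT p.T : Set V).toFinset) (t := s) fun x hx => hh x (Set.mem_toFinset.1 hx)
      rw [Set.toFinset_card, ← Nat.card_eq_fintype_card] at this
      simp only [SetLike.coe_sort_coe] at this
      omega
    obtain ⟨u1, hu1, e1⟩ := big {0} (by simp)
    simp only [Finset.mem_singleton] at e1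
    obtain ⟨u2, hu2, e2⟩ := big {0, u1} (by have := Finset.card_le_two (a := (0 : V)) (b := u1); omega)
    simp only [Finset.mem_insert, Finset.mem_singleton, not_or] at e2
    refine ⟨u1, hu1, e1, u2, hu2, e2.1, fun e => e2.2 e.symm, fun u hu => ?_⟩
    by_contra hh
    push Not at hh
    have h4 : ({0, u1, u2, u1 + u2, u} : Finset V).card = 5 := by
      have a1 : (0 : V) ≠ u1 + u2 := fun e => e2.2 (eqV e.symm).symm
      have a2 : u1 ≠ u1 + u2 := fun e => e2.1 (left_eq_add.1 e)
      have a3 : u2 ≠ u1 + u2 := fun e => e1 (right_eq_add.1 e)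
      rw [Finset.card_insert_of_notMem, Finset.card_insert_of_notMem, Finset.card_insert_of_notMem,
        Finset.card_insert_of_notMem, Finset.card_singleton] <;>
        simp only [Finset.mem_insert, Finset.mem_singleton, not_or]
      · exact fun e => hh.2.2.2 e.symm
      · exact ⟨a3, fun e => hh.2.2.1 e.symm⟩
      · exact ⟨fun e => e2.2 e.symm, a2, fun e => hh.2.1 e.symm⟩
      · exact ⟨fun e => e1 e.symm, fun e => e2.1 e.symm, a1, fun e => hh.1 e.symm⟩
    have := Finset.card_le_card (s := ({0, u1, u2, u1 + u2, u} : Finset V)) (t := (LT p.T : Set V).toFinset)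
      (fun x hx => by
        simp only [Finset.mem_insert, Finset.mem_singleton] at hx
        rcases hx with rfl | rfl | rfl | rfl | rfl <;>
          simp [zero_mem, hu1, hu2, hu, add_mem])
    rw [h4, Set.toFinset_card, ← Nat.card_eq_fintype_card] at this
    simp only [SetLike.coe_sort_coe] at this
    omega
  have hts := p.LT_ts h1
  obtain ⟨f, hfq, hfs, hf1, hf2⟩ := normalise hu10 hu20 hu12 (hts u1 hu1) (hts u2 hu2)
    (hts.le_perp hu1 u2 hu2)
  have hfB := isometry_B hfq
  have hfi : Function.Injective f := by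
    intro x y e
    refine eqV (eq_zero_of_B fun w => ?_)
    rw [← hfB, map_add, e, addV, B_zero_right]
  -- the fixed space and the line in these coordinates
  have hFT : ∀ v, f v ∈ FT p.T ↔ v.1.2 = 0 ∧ v.2.1.2 = 0 := fun v => by
    rw [p.invol.FT_eq, mem_perp]
    constructor
    · intro hh
      refine ⟨?_, ?_⟩
      · have := hh u1 hu1
        rwa [← hf1, hfB, B_x0] at this
      · have := hh u2 hu2
        rw [← hf2, hfB] at this
        simpa [B, l2, inj, A1, BW, pB] using this
    · rintro ⟨k1, k2⟩ u hu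
      have b1 : B (f v) u1 = 0 := by rw [← hf1, hfB, B_x0, k1]
      have b2 : B (f v) u2 = 0 := by rw [← hf2, hfB]; simp [B, l2, inj, A1, BW, pB, k2]
      rcases hmem u hu with rfl | rfl | rfl | rfl
      exacts [B_zero_right _, b1, b2, by rw [B_add_right, b1, b2, add_zero]]
  obtain ⟨fi, hfi'⟩ : ∃ fi : V → V, ∀ v, f (fi v) = v := ⟨fun v => (hfs v).choose, fun v => (hfs v).choose_spec⟩
  let π : V → R4 := fun v => res (fi v)
  have hπ : ∀ v, π (f v) = res v := fun v => by
    show res (fi (f v)) = res v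
    rw [hfi (hfi' (f v))]
  have hπadd : ∀ v w, π (v + w) = π v + π w := fun v w => by
    conv_lhs => rw [← hfi' v, ← hfi' w, ← map_add, hπ, map_add]
  have hπL : ∀ u ∈ LT p.T, π u = 0 := fun u hu => by
    have k0 : π 0 = 0 := by rw [← map_zero f, hπ, map_zero]
    have k1 : π u1 = 0 := by rw [← hf1, hπ]; rfl
    have k2 : π u2 = 0 := by rw [← hf2, hπ]; rfl
    rcases hmem u hu with rfl | rfl | rfl | rfl
    exacts [k0, k1, k2, by rw [hπadd, k1, k2, add_zero]]
  -- the group acting
  let R : Subgroup G := centralizer ({a} : Set G) ⊓ S.qof b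
  have hRc : ∀ r : R, (r : G) * a = a * r := fun r => mem_centralizer_singleton_iff.1 r.2.1
  let Sa : R → (V →+ V) := fun r => actHom p.K p.HA (hRc r)
  have hfixL : ∀ (r : R), ∀ u ∈ LT p.T, Sa r u = u := fun r u hu =>
    p.root_fix r.2.2 (hRc r) u (hD.symm ▸ hu)
  have hmoveU : ∀ (r : R), ∀ u ∈ FT p.T, Sa r u + u ∈ LT p.T := fun r u hu =>
    hD ▸ p.root_move r.2.2 (hRc r) u (by rw [p.U_eq h1]; exact hu)
  have hdisp : ∀ (r : R) (v : V), Sa r v + v ∈ FT p.T := fun r v => by
    rw [p.invol.FT_eq]
    intro u hu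
    have e : B (Sa r v) (Sa r u) = B v u := isometry_B (fun w => p.K.act_q p.HA (hRc r) w) v u
    rw [hfixL r u hu] at e
    rw [B_add_left, e]
    exact CharTwo.add_self_eq_zero _
  let ψ : R → V → R4 := fun r v => π (Sa r v + v)
  have hψmul : ∀ (r s : R) (v : V), ψ (r * s) v = ψ r v + ψ s v := fun r s v => by
    have hm := hmoveU r _ (hdisp s v)
    have e : Sa (r * s) v + v = (Sa r v + v) + (Sa s v + v) + (Sa r (Sa s v + v) + (Sa s v + v)) := by
      have e1 : Sa (r * s) v = Sa r (Sa s v) := p.K.act_mul p.HA (hRc r) (hRc s) v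
      rw [e1, map_add]
      generalize Sa r (Sa s v) = A
      generalize Sa r v = X
      generalize Sa s v = Y
      calc A + v = A + v + ((X + X) + (Y + Y) + (v + v)) := by simp [addV]
        _ = _ := by abel
    show π _ = _
    rw [e, hπadd, hπadd, hπL _ hm, add_zero]
  let φ : R →* Multiplicative (R4 × R4) :=
    MonoidHom.mk' (fun r => Multiplicative.ofAdd (ψ r (f f0), ψ r (f g1))) fun r s => by
      rw [← ofAdd_add, Prod.mk_add_mk, ← hψmul, ← hψmul]
  -- its kernel
  have hcardR : Nat.card R = 128 := by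
    have := p.symm.card_cent
    rw [hU'] at this
    exact this
  have hker : 8 ≤ Nat.card φ.ker := by
    have hdcard : Nat.card ↥(S.qof b ⊓ S.qof a) = 4 := by rw [p.card_D, hD, hL]
    have hone : ∀ (r : R), (∀ v, Sa r v + v ∈ LT p.T) → r ∈ φ.ker := fun r hr => by
      rw [MonoidHom.mem_ker]
      show Multiplicative.ofAdd (π _, π _) = 1
      rw [hπL _ (hr _), hπL _ (hr _)]
      rfl
    have hd : ∀ x ∈ S.qof b ⊓ S.qof a, x ∈ R := fun x hx =>
      ⟨mem_centralizer_singleton_iff.2 (S.qof_comm p.ha hx.2), hx.1⟩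
    have hbR : b ∈ R := ⟨mem_centralizer_singleton_iff.2 p.comm.symm, S.self_mem p.hb⟩
    let g : ↥(S.qof b ⊓ S.qof a) × Bool → ↥φ.ker := fun x =>
      ⟨⟨(if x.2 then b else 1) * x.1, mul_mem (by split_ifs <;> first | exact hbR | exact one_mem _) (hd _ x.1.2)⟩,
        hone _ fun v => by
          have hx := p.K.act_mem p.HA x.1.2.2
          show p.K.act ((if x.2 then b else 1) * (x.1 : G)) v + v ∈ LT p.T
          split_ifs
          · rw [p.K.act_mul p.HA p.comm.symm (S.qof_comm p.ha x.1.2.2), hx]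
            exact mv_mem_LT p.T v
          · rw [one_mul, hx, addV]
            exact zero_mem _⟩
    have hg : Function.Injective g := by
      rintro ⟨x, i⟩ ⟨y, j⟩ e
      have e' : (if i then b else 1) * (x : G) = (if j then b else 1) * (y : G) :=
        congrArg (fun z : ↥φ.ker => ((z : R) : G)) e
      have hij : i = j := by
        by_contra hne
        refine p.b_not_mem ?_
        cases i <;> cases j <;> simp at hne e'
        · rw [show b = (x : G) * (y : G)⁻¹ by rw [e', mul_inv_cancel_right]]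
          exact mul_mem x.2.2 ((S.qof a).inv_mem y.2.2)
        · rw [show b = (y : G) * (x : G)⁻¹ by rw [← e', mul_inv_cancel_right]]
          exact mul_mem y.2.2 ((S.qof a).inv_mem x.2.2)
      subst hij
      exact Prod.ext (Subtype.ext (mul_left_cancel e')) rfl
    have := Nat.card_le_card_of_injective g hg
    rw [Nat.card_prod, hdcard, Nat.card_eq_fintype_card (α := Bool), Fintype.card_bool] at this
    omega
  let F : AddSubgroup (R4 × R4) := Subgroup.toAddSubgroup' φ.range
  have hF : Nat.card F ≤ 16 := by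
    have e := Subgroup.card_eq_card_quotient_mul_card_subgroup φ.ker
    rw [Nat.card_congr (QuotientGroup.quotientKerEquivRange φ).toEquiv, hcardR] at e
    show Nat.card φ.range ≤ 16
    by_contra hc
    push Not at hc
    nlinarith
  -- invariance
  have hinv : ∀ i, ∀ q ∈ F, (gR i q.1, gR i q.2) ∈ F := by
    intro i q hq
    obtain ⟨r, hr⟩ := hq
    have hr' : q = (ψ r (f f0), ψ r (f g1)) := congrArg Multiplicative.toAdd hr.symm
    -- an element acting as the word
    obtain ⟨c, hc, hcv⟩ : ∃ c : G, c * a = a * c ∧ ∀ v, p.K.act c (f v) = f (app (gens i) v) := by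
      have : ∀ l : List (V × V), (∀ ab ∈ l, qV 0 ab.1 = 1 ∧ qV 0 ab.2 = 1) →
          ∃ c : G, c * a = a * c ∧ ∀ v, p.K.act c (f v) = f (app l v) := by
        intro l
        induction l with
        | nil => exact fun _ => ⟨1, by rw [one_mul, mul_one], fun v => p.K.act_one p.HA (f v)⟩
        | cons ab l ih =>
          intro hl
          obtain ⟨c, hc, hcv⟩ := ih fun x hx => hl x (List.mem_cons_of_mem _ hx)
          obtain ⟨k1, k2⟩ := hl ab List.mem_cons_self
          obtain ⟨d, hd, hdv⟩ := p.K.pair p.HA (a := f ab.1) (b := f ab.2) (by rw [hfq, k1]) (by rw [hfq, k2])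
          refine ⟨d * c, (Commute.mul_left hd hc).eq, fun v => ?_⟩
          have hfr : ∀ z u, f (CoOneType.refl z u) = CoOneType.refl (f z) (f u) := fun z u => by
            rw [CoOneType.refl, map_add, CoOneType.refl, hfB]
            rcases zcases (B u z) with e | e <;> simp [e]
          rw [p.K.act_mul p.HA hd hc, hcv, hdv, app, hfr, hfr]
      exact this _ (gens_q i)
    obtain ⟨k1, k2, k3, k4⟩ := gens_fix i
    -- the involution in the coordinates
    have hTf : ∀ v, p.T (f v) = f v + (v.2.1.2 • u1 + v.1.2 • u2) := by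
      intro v
      have hmf : ∀ w : V, ∀ x y : ZMod 2, B (f w) (x • u1 + y • u2) = x * w.1.2 + y * w.2.1.2 := by
        intro w x y
        have b1 : B (f w) u1 = w.1.2 := by rw [← hf1, hfB, B_x0]
        have b2 : B (f w) u2 = w.2.1.2 := by rw [← hf2, hfB]; simp [B, l2, inj, A1, BW, pB]
        rcases zcases x with rfl | rfl <;> rcases zcases y with rfl | rfl <;>
          simp [B_add_right, b1, b2, B_zero_right]
      have param : ∀ w, ∃ x y : ZMod 2, mv p.T w = x • u1 + y • u2 := fun w => by
        rcases hmem _ (mv_mem_LT p.T w) with e | e | e | e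
        · exact ⟨0, 0, by simp [e]⟩
        · exact ⟨1, 0, by simp [e]⟩
        · exact ⟨0, 1, by simp [e]⟩
        · exact ⟨1, 1, by simp [e]⟩
      have base : ∀ w : V, (w = f0 ∨ w = g1) → mv p.T (f w) = w.2.1.2 • u1 + w.1.2 • u2 := by
        intro w hw
        obtain ⟨x, y, e⟩ := param (f w)
        have hs := p.invol.self_orth (v := f w) (hts _ (mv_mem_LT _ _))
        rw [e, hmf] at hs
        have hne : mv p.T (f w) ≠ 0 := fun e0 => by
          have := (hFT w).1 e0
          rcases hw with rfl | rfl <;> simp [f0, g1, inj] at this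
        rw [e] at hne ⊢
        rcases hw with rfl | rfl
        · simp [f0] at hs ⊢
          subst hs
          rcases zcases y with rfl | rfl
          · simp at hne
          · simp
        · simp [g1, inj] at hs ⊢
          subst hs
          rcases zcases x with rfl | rfl
          · simp at hne
          · simp
      obtain ⟨x, y, e⟩ := param (f v)
      have e1 : B (f f0) (mv p.T (f v)) = B (f v) (mv p.T (f f0)) := by rw [← p.invol.adj, B_comm]
      have e2 : B (f g1) (mv p.T (f v)) = B (f v) (mv p.T (f g1)) := by rw [← p.invol.adj, B_comm]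
      rw [e, hmf, base _ (Or.inl rfl), hmf] at e1
      rw [e, hmf, base _ (Or.inr rfl), hmf] at e2
      simp [f0, g1, inj] at e1 e2
      rw [T_eq, e, e1, e2]
    have hct : ∀ v, p.K.act c (p.T v) = p.T (p.K.act c v) := by
      intro v
      rw [← hfi' v, hTf, hcv, hTf, p.K.act_add p.HA hc, hcv]
      congr 1
      have hu : ∀ x y : ZMod 2, p.K.act c (x • u1 + y • u2) = x • u1 + y • u2 := by
        intro x y
        have a1 : p.K.act c u1 = u1 := by rw [← hf1, hcv, k1]
        have a2 : p.K.act c u2 = u2 := by rw [← hf2, hcv, k2]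
        rcases zcases x with rfl | rfl <;> rcases zcases y with rfl | rfl <;>
          simp [p.K.act_add p.HA hc, a1, a2, p.K.act_zero p.HA hc]
      rw [hu]
      have hq : ∀ x, qV 0 (app (gens i) x) = qV 0 x := fun x => by
        rw [← hfq, ← hcv, p.K.act_q p.HA hc, hfq]
      let A : V →+ V := AddMonoidHom.mk' (app (gens i)) (app_add _)
      have b1 : (app (gens i) (fi v)).1.2 = (fi v).1.2 := by
        rw [← B_x0, ← B_x0, ← k1]
        exact (isometry_B (T := A) hq (fi v) x0).trans (by rw [k1])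
      have b2 : (app (gens i) (fi v)).2.1.2 = (fi v).2.1.2 := by
        have e := isometry_B (T := A) hq (fi v) l2
        rw [show A l2 = l2 from k2, show A (fi v) = app (gens i) (fi v) from rfl] at e
        simpa [B, l2, inj, A1, BW, pB] using e
      rw [b1, b2]
    obtain ⟨c', hc', hc'v, hcb⟩ := p.stab_cases h1 hc hct
    have hcb' : c' * b * c'⁻¹ = b := by
      refine hcb.resolve_right fun e => ?_
      -- `a * b` is not a conjugate
      obtain ⟨v, hv⟩ := p.nontriv
      obtain ⟨q0, hq0, rfl⟩ := p.K.surj v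
      obtain ⟨hm, hconj, hvec, -⟩ := p.twist hq0
      have hne : p.K.vec (b * q0⁻¹ * b * q0) ≠ 0 := fun e0 => hv (mem_FT.1 (hvec.symm.trans e0))
      obtain ⟨d, hd, hdv⟩ : p.K.vec (b * q0⁻¹ * b * q0) ∈ p.D := by rw [hD, hvec]; exact mv_mem_LT _ _
      rcases p.K.eq_or p.HA hm hd.2 hdv.symm with e' | e'
      · have := p.twist_not_D hq0 (e'.symm ▸ hd.1)
        rw [this, p.K.vec_one] at hne
        exact hne rfl
      · have hX : S.X (b * d) := by
          have hqa : q0⁻¹ * a * q0 = a := by
            rw [mul_assoc, ← S.qof_comm p.ha hq0, ← mul_assoc, inv_mul_cancel, one_mul]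
          have := S.X_conj (S.X_conj p.hb c') q0⁻¹
          rwa [e, inv_inv, show q0⁻¹ * (a * b) * q0 = (q0⁻¹ * a * q0) * (q0⁻¹ * b * q0) by group, hqa, hconj,
            e', ← mul_assoc b a, ← p.comm, mul_assoc a b, ← mul_assoc a a, S.X_sq p.ha, one_mul] at this
        have := S.eq_of_mem p.hb hX (mul_mem (S.self_mem p.hb) hd.1)
        rw [mul_eq_left] at this
        rw [e', this, mul_one, p.K.vec_z p.HA] at hne
        exact hne rfl
    have hcb2 : c' * b = b * c' := mul_inv_eq_iff_eq_mul.1 hcb'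
    have hnew : c' * (r : G) * c'⁻¹ ∈ R := by
      refine ⟨mem_centralizer_singleton_iff.2 ?_, (S.pre_qof p.hb).norm c' hcb2 r r.2.2⟩
      exact (Commute.mul_left (Commute.mul_left hc' (hRc r)) (Commute.inv_left hc')).eq
    refine ⟨⟨_, hnew⟩, congrArg Multiplicative.ofAdd ?_⟩
    have key : ∀ w, app (gens i) w = w → ψ ⟨_, hnew⟩ (f w) = gR i (ψ r (f w)) := by
      intro w hw
      have hcw : p.K.act c' (f w) = f w := by rw [hc'v, hcv, hw]
      have hcw' : p.K.act c'⁻¹ (f w) = f w := by
        conv_lhs => rw [← hcw]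
        exact p.K.act_inv_cancel p.HA hc' _
      have e : Sa ⟨_, hnew⟩ (f w) = p.K.act c' (Sa r (f w)) := by
        show p.K.act (c' * r * c'⁻¹) (f w) = _
        rw [p.K.act_mul p.HA (Commute.mul_left hc' (hRc r)).eq (Commute.inv_left hc').eq,
          p.K.act_mul p.HA hc' (hRc r), hcw']
        rfl
      show π _ = gR i (π _)
      have hd := hdisp r (f w)
      rw [← hfi' (Sa r (f w) + f w)] at hd ⊢
      obtain ⟨z1, z2⟩ := (hFT _).1 hd
      rw [hπ, ← gens_res i _ z1 z2, ← hπ (app (gens i) (fi (Sa r (f w) + f w))), ← hcv, hfi', e, ← hc'v,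
        p.K.act_add p.HA hc', hcw]
    rw [hr', key f0 k3, key g1 k4]
  -- the square root
  have hr0R : r0 ∈ R := ⟨mem_centralizer_singleton_iff.2 hr0a, hr0⟩
  refine no_invariant F hF hinv (p := (ψ ⟨r0, hr0R⟩ (f f0), ψ ⟨r0, hr0R⟩ (f g1))) ⟨⟨r0, hr0R⟩, rfl⟩ ?_
  set r : R := ⟨r0, hr0R⟩ with hr
  set e1 := Sa r (f f0) + f f0 with he1
  set e2 := Sa r (f g1) + f g1 with he2
  obtain ⟨w1, hw1⟩ := hfs e1
  obtain ⟨w2, hw2⟩ := hfs e2
  have z1 := (hFT w1).1 (hw1 ▸ hdisp r (f f0))
  have z2 := (hFT w2).1 (hw2 ▸ hdisp r (f g1))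
  show BR (π e1) (π e2) = 1
  rw [← hw1, ← hw2, hπ, hπ]
  have hB : B e1 e2 = 1 := by
    have hT : mv p.T (f f0) = Sa r e1 + e1 := by
      have h2' : p.T (f f0) = Sa r (Sa r (f f0)) := by
        show p.K.act b _ = p.K.act r0 (p.K.act r0 _)
        rw [← p.K.act_mul p.HA hr0a hr0a, hr0b]
      rw [mv_apply, h2', he1, map_add]
      generalize Sa r (Sa r (f f0)) = A
      generalize Sa r (f f0) = X
      calc A + f f0 = A + f f0 + (X + X) := by rw [addV, add_zero]
        _ = _ := by abel
    have hT1 : B (f g1) (mv p.T (f f0)) = 1 := by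
      rcases zcases (B (f g1) (mv p.T (f f0))) with e | e
      · exfalso
        have hs := p.invol.self_orth (v := f f0) (hts _ (mv_mem_LT _ _))
        obtain ⟨x, hx⟩ := hfs (mv p.T (f f0))
        rw [← hx, hfB] at e hs
        rcases hmem _ (mv_mem_LT p.T (f f0)) with o | o | o | o
        · have := (hFT f0).1 o
          simp [f0] at this
        all_goals
          rw [← hx] at o
          first
            | (rw [← hf1] at o; rw [hfi o] at hs; simp [B, f0, x0, pB, BW, inj] at hs)
            | (rw [← hf2] at o; rw [hfi o] at e; simp [B, g1, l2, A1, pB, BW, inj] at e)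
            | (rw [← hf1, ← hf2, ← map_add] at o; rw [hfi o] at e; simp [B, g1, l2, x0, A1, pB, BW, inj] at e)
      · exact e
    rw [hT, B_add_right] at hT1
    have hSe : Sa r e1 + e1 ∈ LT p.T := hmoveU r e1 (hdisp r _)
    have hB2 : B (Sa r e1) (Sa r (f g1)) = B e1 (f g1) := isometry_B (fun w => p.K.act_q p.HA (hRc r) w) _ _
    have hLe : B (Sa r e1 + e1) e2 = 0 := by
      rw [B_comm]
      exact p.invol.FT_eq.le (hdisp r _) _ hSe
    have hsplit : Sa r (f g1) = f g1 + e2 := by rw [he2, add_left_comm, addV, add_zero]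
    rw [hsplit, B_add_right] at hB2
    rw [B_add_left] at hLe
    rw [B_comm (f g1), B_comm (f g1)] at hT1
    linear_combination hT1 + hB2 + hLe - CharTwo.add_self_eq_zero (B (Sa r e1) (f g1)) -
      CharTwo.add_self_eq_zero (B (Sa r e1) e2)
  rw [← hw1, ← hw2, hfB] at hB
  obtain ⟨⟨x1, y1⟩, ⟨c1, d1⟩, t1⟩ := w1
  obtain ⟨⟨x2, y2⟩, ⟨c2, d2⟩, t2⟩ := w2
  obtain ⟨rfl, rfl⟩ := z1
  obtain ⟨rfl, rfl⟩ := z2
  simpa [B, BW, BR, pB, res] using hB

end CfsgLib.CoOneUnique.Fus.Std.Pair
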