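import Mathlib
import Cfsg.Agent.Lib.CoOneUnique.Fus.Line

/-!
For commuting conjugates `a ≠ b`, no element of the extraspecial subgroup at `b` centralizing `a` squares to
`b`; hence the part of the coordinates at `a` fixed by `b` is totally singular.
-/

set_option autoImplicit false
set_option linter.style.longLine false
set_option linter.unusedSectionVars false
set_option synthInstance.maxSize 8000
set_option synthInstance.maxHeartbeats 1000000
set_option maxHeartbeats 1000000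

namespace CfsgLib.CoOneUnique.Fus.Std.Pair

open Subgroup CfsgLib.CoOneType

variable {G : Type*} [Group G] [Finite G] {S : Std G} {a b : G} (p : S.Pair a b)
include p

theorem no_sq_untwisted (h1 : ¬ p.Tw) (h2 : ¬ p.symm.Tw) (hs : p.Sq) : False := by
  have n1 : ¬ TS p.U := fun h => p.not_sq_of_ts h1 h hs
  have hs' := p.sq_symm n1
  exact p.no_lines h1 h2 n1 fun h => p.symm.not_sq_of_ts h2 h hs'

/-- A vector orthogonal to `U` inside `U` is a commutator vector, when some commutator vector is not singular. -/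
theorem inf_perp_le {n : V} (hn : n ∈ LT p.T) (hn1 : qV 0 n = 1) {x : V} (hx : x ∈ p.U) (hxp : x ∈ perp p.U) :
    x ∈ LT p.T := by
  rw [← perp_perp (LT p.T), ← p.invol.FT_eq]
  intro v hv
  have hnU : n ∉ p.U := fun h => by
    rw [(p.U_inf_LT hn).1 h] at hn1
    exact zero_ne_one hn1
  by_cases hvU : v ∈ p.U
  · exact hxp v hvU
  · have := hxp _ (add_mem_of_card_two p.U_le p.FT_le_two hv (p.invol.LT_le_FT hn) hvU hnU)
    rw [B_add_right] at this
    have hxn : B x n = 0 := p.invol.FT_eq.le (p.U_le hx) n hn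
    rwa [hxn, add_zero] at this

/-- With twisting and a square root, the common part is trivial and some element of the extraspecial subgroup at
`a` squares to `a` and is inverted by `b`. -/
theorem tw_sq_data (ht : p.Tw) (hs : p.Sq) :
    p.D = ⊥ ∧ ∃ y ∈ S.qof a, y * y = a ∧ b * y * b⁻¹ = y⁻¹ ∧ p.K.vec y ∈ LT p.T := by
  by_cases hts : TS (LT p.T)
  · exfalso
    have hLU : LT p.T ≤ p.U := (p.LT_ts_le le_rfl).2 hts
    have hpU : perp p.U ≤ p.U := by
      intro x hx
      by_contra hxU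
      have hxF : x ∈ FT p.T := by rw [p.invol.FT_eq]; exact perp_anti hLU hx
      refine hxU (hLU ?_)
      rw [← perp_perp (LT p.T), ← p.invol.FT_eq]
      intro v hv
      by_cases hvU : v ∈ p.U
      · exact hx v hvU
      · have := hx _ (add_mem_of_card_two p.U_le p.FT_le_two hv hxF hvU hxU)
        rwa [B_add_right, B_self, add_zero] at this
    obtain ⟨r, hr, hra, hrr⟩ := hs
    have h0 : perp p.D ≤ FT p.T := fun v hv =>
      p.tw_D_inf ht ((p.chain hr hra hrr).image hpU hv) (mv_mem_LT _ _)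
    have h1 := perp_anti h0
    rw [p.invol.FT_eq, perp_perp, perp_perp] at h1
    obtain ⟨v, hv⟩ := p.nontriv
    exact hv (mem_FT.1 (p.tw_D_inf ht (h1 (mv_mem_LT _ v)) (mv_mem_LT _ v)))
  · rw [TS] at hts
    push Not at hts
    obtain ⟨n, hn, hn1⟩ := hts
    have hn1' := eq_one hn1
    refine ⟨eq_bot_iff.2 fun x hx => AddSubgroup.mem_bot.2
      (p.tw_D_inf ht hx (p.inf_perp_le hn hn1' (p.D_le hx) (p.D_perp hx))), ?_⟩
    obtain ⟨y, hy, rfl⟩ := p.K.surj n
    exact ⟨y, hy, by rw [p.K.sq hy, if_neg hn1], p.LT_inverted hy hn, hn⟩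

theorem no_sq_twisted (ht : p.Tw) (hs : p.Sq) : False := by
  obtain ⟨hD, y, hy, hy2, hyb, hyL⟩ := p.tw_sq_data ht hs
  obtain ⟨r, hr, hra, hrr⟩ := hs
  have ha2 := S.X_sq p.ha
  have hya : y * a = a * y := S.qof_comm p.ha hy
  have hyb' : y * b * y⁻¹ = a * b := by
    rw [← hyb, show y * b * (b * y * b⁻¹) = y * (b * b) * y * b⁻¹ by group, S.X_sq p.hb, mul_one, hy2, S.X_inv p.hb]
  have hab : y * (a * b) * y⁻¹ = b := by
    rw [show y * (a * b) * y⁻¹ = y * a * y⁻¹ * (y * b * y⁻¹) by group, hya, mul_inv_cancel_right, hyb',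
      ← mul_assoc, ha2, one_mul]
  have p' : S.Pair b (a * b) :=
    ⟨p.hb, hyb' ▸ S.X_conj p.hb y, fun e => S.X_ne_one p.ha (right_eq_mul.1 e), by
      rw [← mul_assoc, ← p.comm]⟩
  have hrab : r * (a * b) = a * b * r := by
    rw [← mul_assoc, hra, mul_assoc, S.qof_comm p.hb hr, mul_assoc]
  set r' := y * r * y⁻¹ with hr'
  have hr'Q : r' ∈ S.qof (a * b) := hyb' ▸ (S.qof_conj p.hb y r).2 hr
  have hr'b : r' * b = b * r' := by
    rw [hr']
    conv_lhs => rw [← hab]
    conv_rhs => rw [← hab]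
    rw [show y * r * y⁻¹ * (y * (a * b) * y⁻¹) = y * (r * (a * b)) * y⁻¹ by group, hrab]
    group
  have hr'2 : r' * r' = a * b := by
    rw [hr', show y * r * y⁻¹ * (y * r * y⁻¹) = y * (r * r) * y⁻¹ by group, hrr, hyb']
  have hs' : p'.Sq := ⟨r', hr'Q, hr'b, hr'2⟩
  by_cases ht' : p.symm.Tw
  · obtain ⟨q, hq, hqa⟩ := ht'
    have hTw' : p'.Tw := by
      refine ⟨q⁻¹, (S.qof b).inv_mem hq, ?_⟩
      have e1 : b * (a * b) = a := by rw [← mul_assoc, ← p.comm, mul_assoc, S.X_sq p.hb, mul_one]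
      rw [e1, show q⁻¹ * (a * b) * q⁻¹⁻¹ = q⁻¹ * (a * b) * q by rw [inv_inv], p.comm, ← hqa]
      group
    obtain ⟨hD', -⟩ := p'.tw_sq_data hTw' hs'
    -- the two square roots commute
    have hcomm : r * r' * r⁻¹ * r'⁻¹ = 1 := by
      refine p'.D_card_one hD' ?_ ?_
      · have := mul_mem hr ((S.pre_qof p.hb).norm r' hr'b r⁻¹ ((S.qof b).inv_mem hr))
        rwa [show r * (r' * r⁻¹ * r'⁻¹) = r * r' * r⁻¹ * r'⁻¹ by group] at this
      · exact mul_mem ((S.pre_qof p'.hb).norm r hrab r' hr'Q) ((S.qof (a * b)).inv_mem hr'Q)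
    have hrr' : r * r' = r' * r := mul_inv_eq_iff_eq_mul.1 (mul_inv_eq_one.1 hcomm)
    have hria : r⁻¹ * a = a * r⁻¹ := (Commute.inv_left hra).eq
    have hri2 : r⁻¹ * r⁻¹ = b := by rw [← mul_inv_rev, hrr, S.X_inv p.hb]
    set w := r⁻¹ * y * r * y⁻¹ with hw
    have hn : r⁻¹ * y * r ∈ S.qof a := by
      have := p.HA.norm r⁻¹ hria y hy
      rwa [inv_inv] at this
    have hwQ : w ∈ S.qof a := mul_mem hn ((S.qof a).inv_mem hy)
    have hr'w : r' = r * w := by rw [hw, hr']; group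
    have hwr : r * w = w * r := by
      rw [hr'w, mul_assoc] at hrr'
      exact mul_left_cancel hrr'
    have hwb : w * b = b * w := by rw [← hrr, ← mul_assoc, ← hwr, mul_assoc, ← hwr, mul_assoc]
    have hw2 : w * w = a := by
      have e : r * w * (r * w) = a * b := by rw [← hr'w, hr'2]
      rw [show r * w * (r * w) = r * (w * r) * w by group, ← hwr, ← mul_assoc r r w, hrr, mul_assoc, p.comm] at e
      exact mul_left_cancel e
    have hwU : p.K.vec w ∈ p.U := (p.mem_U_iff hwQ).2 hwb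
    have hwp : p.K.vec w ∈ perp p.U := by
      have C := p.chain ((S.qof b).inv_mem hr) hria hri2
      have := C.orth (v := p.K.vec y) (by rw [hD]; exact fun u hu => by rw [AddSubgroup.mem_bot.1 hu, B_zero_right])
      rwa [actHom_vec _ _ _ hy, inv_inv, show p.K.vec (r⁻¹ * y * r) + p.K.vec y = p.K.vec w by
        rw [hw, p.K.mul hn ((S.qof a).inv_mem hy), p.K.vec_inv hy]] at this
    have hn1 : qV 0 (p.K.vec y) = 1 := by
      refine eq_one fun e => S.X_ne_one p.ha ?_
      rw [← hy2]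
      exact (p.K.invol_iff p.HA.extra.ne_one hy).2 e
    have hwL := p.inf_perp_le hyL hn1 hwU hwp
    refine S.X_ne_one p.ha ?_
    rw [← hw2]
    exact (p.K.invol_iff p.HA.extra.ne_one hwQ).2 ((p.U_inf_LT hwL).1 hwU)
  · have e1 : b * (a * b) = a := by rw [← mul_assoc, ← p.comm, mul_assoc, S.X_sq p.hb, mul_one]
    have e2 : a * b * b = a := by rw [mul_assoc, S.X_sq p.hb, mul_one]
    have k1 : ¬ p'.Tw := by
      rintro ⟨q, hq, hqa⟩
      rw [e1] at hqa
      refine ht' ⟨q⁻¹, (S.qof b).inv_mem hq, ?_⟩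
      conv_lhs => rw [← hqa]
      rw [← p.comm]
      group
    have k2 : ¬ p'.symm.Tw := by
      rintro ⟨q, hq, hqa⟩
      rw [e2] at hqa
      have hq' : y * q * y⁻¹ ∈ S.qof b := by
        have := (S.qof_conj p'.hb y q).2 hq
        rwa [hab] at this
      refine ht' ⟨(y * q * y⁻¹)⁻¹, (S.qof b).inv_mem hq', ?_⟩
      have e3 : y * q * y⁻¹ * (a * b) * (y * q * y⁻¹)⁻¹ = a := by
        rw [← hyb', show y * q * y⁻¹ * (y * b * y⁻¹) * (y * q * y⁻¹)⁻¹ = y * (q * b * q⁻¹) * y⁻¹ by group, hqa,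
          hya, mul_inv_cancel_right]
      conv_lhs => arg 1; arg 2; rw [← e3]
      rw [← p.comm]
      group
    exact p'.no_sq_untwisted k1 k2 hs'

theorem no_sq : ¬ p.Sq := by
  intro hs
  by_cases h1 : p.Tw
  · exact p.no_sq_twisted h1 hs
  · have n1 : ¬ TS p.U := fun h => p.not_sq_of_ts h1 h hs
    by_cases h2 : p.symm.Tw
    · exact p.symm.no_sq_twisted h2 (p.sq_symm n1)
    · exact p.no_sq_untwisted h1 h2 hs

theorem U_ts : TS p.U := by
  by_contra h
  exact p.symm.no_sq (p.sq_symm h)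

end CfsgLib.CoOneUnique.Fus.Std.Pair
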