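import Mathlib
import Cfsg.Agent.Lib.CoOneUnique.Fus.Squares

/-!
All fixed spaces are totally singular: then every one has order 16, twisting is impossible, and the untwisted
configuration contradicts the quadratic law of the twisting elements against the Pfaffian.
-/

set_option autoImplicit false
set_option linter.style.longLine false
set_option linter.unusedSectionVars false
set_option synthInstance.maxSize 8000
set_option synthInstance.maxHeartbeats 1000000
set_option maxHeartbeats 1000000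

namespace CfsgLib.CoOneUnique.Fus

open CfsgLib.CoOneType

/-- The six coefficients of an alternating form in four variables. -/
abbrev A6 := (ZMod 2 × ZMod 2 × ZMod 2) × (ZMod 2 × ZMod 2 × ZMod 2)

/-- The Pfaffian. -/
def pf (g : A6) : ZMod 2 := g.1.1 * g.2.2.2 + g.1.2.1 * g.2.2.1 + g.1.2.2 * g.2.1

/-- The polar form of the Pfaffian. -/
def bpf (g h : A6) : ZMod 2 :=
  g.1.1 * h.2.2.2 + h.1.1 * g.2.2.2 + (g.1.2.1 * h.2.2.1 + h.1.2.1 * g.2.2.1) +
    (g.1.2.2 * h.2.1 + h.1.2.2 * g.2.1)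

theorem pf_add (g h : A6) : pf (g + h) = pf g + pf h + bpf g h := by
  simp only [pf, bpf, Prod.fst_add, Prod.snd_add]; ring

theorem bpf_add_left (g h k : A6) : bpf (g + h) k = bpf g k + bpf h k := by
  simp only [bpf, Prod.fst_add, Prod.snd_add]; ring

theorem bpf_add_right (g h k : A6) : bpf g (h + k) = bpf g h + bpf g k := by
  simp only [bpf, Prod.fst_add, Prod.snd_add]; ring

theorem bpf_self (g : A6) : bpf g g = 0 := by
  simp only [bpf]; ring_nf; simp [show (2 : ZMod 2) = 0 from rfl]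

theorem pf_kernel : ∀ g : A6, pf g = 0 → ∃ c : Fin 4 → ZMod 2, c ≠ 0 ∧
    c 1 * g.1.1 + c 2 * g.1.2.1 + c 3 * g.1.2.2 = 0 ∧ c 0 * g.1.1 + c 2 * g.2.1 + c 3 * g.2.2.1 = 0 ∧
    c 0 * g.1.2.1 + c 1 * g.2.1 + c 3 * g.2.2.2 = 0 ∧ c 0 * g.1.2.2 + c 1 * g.2.2.1 + c 2 * g.2.2.2 = 0 := by
  decide +kernel

namespace Std.Pair

open Subgroup

variable {G : Type*} [Group G] [Finite G] {S : Std G} {a b : G} (p : S.Pair a b)
include p

theorem fix_sixteen : Nat.card (FT p.T) = 16 ∧ LT p.T = FT p.T := by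
  have hU := p.U_ts
  have hF := card_LT_FT p.T
  have hle := AddSubgroup.card_le_of_le p.invol.LT_le_FT
  have hF2 := p.FT_le_two
  suffices h : LT p.T = FT p.T by
    rw [h] at hF
    exact ⟨by nlinarith, h⟩
  by_cases hts : TS (LT p.T)
  · have hLU : LT p.T ≤ p.U := (p.LT_ts_le le_rfl).2 hts
    have hU16 := hU.card_le
    rcases p.invol.card_LT hts p.nontriv with e | e
    · rw [e] at hF; omega
    · exact AddSubgroup.eq_of_le_of_card_ge p.invol.LT_le_FT (by rw [e] at hF ⊢; omega)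
  · rw [TS] at hts
    push Not at hts
    obtain ⟨n, hn, hn1⟩ := hts
    have hUL : p.U ≤ LT p.T := fun x hx => p.inf_perp_le hn (eq_one hn1) hx (hU.le_perp hx)
    refine AddSubgroup.eq_of_le_of_card_ge p.invol.LT_le_FT (hF2.trans ?_)
    have hnU : n ∉ p.U := fun h => hn1 ((p.U_inf_LT hn).1 h)
    have h1 : p.U.relIndex (LT p.T) ≠ 1 := fun e => hnU (AddSubgroup.relIndex_eq_one.1 e hn)
    have h0 : p.U.relIndex (LT p.T) ≠ 0 := (p.U.addSubgroupOf (LT p.T)).index_ne_zero_of_finite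
    have h2 := AddSubgroup.relIndex_mul_relIndex ⊥ p.U (LT p.T) bot_le hUL
    rw [AddSubgroup.relIndex_bot_left, AddSubgroup.relIndex_bot_left] at h2
    rw [← h2, mul_comm]
    exact Nat.mul_le_mul_left _ (by omega)

theorem no_tw : ¬ p.Tw := by
  intro ht
  obtain ⟨hF, hLF⟩ := p.fix_sixteen
  have hUL : p.U ≤ LT p.T := hLF ▸ p.U_le
  have hD : p.D = ⊥ := eq_bot_iff.2 fun x hx =>
    AddSubgroup.mem_bot.2 (p.tw_D_inf ht hx (hUL (p.D_le hx)))
  have hU8 : Nat.card p.U = 8 := by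
    obtain ⟨q, hq, hqb⟩ := id ht
    have hne : p.U ≠ FT p.T := by
      intro e
      have hfix : p.K.vec q ∈ FT p.T := by
        rw [mem_FT, p.T_vec hq]
        have e1 : b * q * b⁻¹ = a * q := by
          have e2 : q * b = a * b * q := mul_inv_eq_iff_eq_mul.1 hqb
          rw [mul_inv_eq_iff_eq_mul, mul_assoc a q b, e2, ← mul_assoc, ← mul_assoc, S.X_sq p.ha, one_mul]
        rw [e1, p.K.mul (S.self_mem p.ha) hq, p.K.vec_z p.HA, zero_add]
      have hc := (p.mem_U_iff hq).1 (e.symm ▸ hfix)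
      rw [hc, mul_inv_cancel_right] at hqb
      exact S.X_ne_one p.ha (right_eq_mul.1 hqb)
    have h2 := p.FT_le_two
    have h3 := AddSubgroup.card_le_of_le p.U_le
    rw [hF] at h2 h3
    obtain ⟨k, -, hk⟩ := card_cases p.U
    have : Nat.card p.U ≠ 16 := fun e => hne (AddSubgroup.eq_of_le_of_card_ge p.U_le (by rw [hF, e]))
    have hk4 : k ≤ 4 := by
      by_contra hh
      push Not at hh
      have : 2 ^ 5 ≤ 2 ^ k := Nat.pow_le_pow_right (by norm_num) hh
      omega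
    interval_cases k <;> simp only [Nat.reducePow] at hk <;> omega
  -- the group of order sixteen
  let M : Subgroup G := centralizer ({b} : Set G) ⊓ S.qof a
  have hM : Nat.card M = 16 := by
    show Nat.card ↥(centralizer ({b} : Set G) ⊓ S.qof a) = 16
    rw [p.card_cent, hU8]
  have hMc : ∀ m : M, (m : G) * b = b * m := fun m => mem_centralizer_singleton_iff.1 m.2.1
  let φ : M → (V →+ V) := fun m => actHom p.symm.K p.symm.HA (hMc m)
  have hD' : p.symm.D = ⊥ := by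
    refine AddSubgroup.eq_bot_of_card_eq _ ?_
    rw [← p.symm.card_D, inf_comm, p.card_D, hD, AddSubgroup.card_bot]
  -- a subgroup of order eight of the other fixed part
  obtain ⟨U3, hU3, hU3le⟩ : ∃ U3 : AddSubgroup V, Nat.card U3 = 8 ∧ U3 ≤ p.symm.U := by
    have h2 := p.symm.FT_le_two
    rw [p.symm.fix_sixteen.1] at h2
    have : Fact (Nat.Prime 2) := ⟨Nat.prime_two⟩
    have hd : 2 ^ 3 ∣ Nat.card (Multiplicative ↥p.symm.U) := by
      obtain ⟨k, -, hk⟩ := card_cases p.symm.U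
      rw [show Nat.card (Multiplicative ↥p.symm.U) = Nat.card p.symm.U from rfl, hk]
      refine Nat.pow_dvd_pow 2 ?_
      by_contra hh
      push Not at hh
      interval_cases k <;> simp only [Nat.reducePow] at hk <;> omega
    obtain ⟨H, hH⟩ := Sylow.exists_subgroup_card_pow_prime 2 hd
    refine ⟨(Subgroup.toAddSubgroup' H).map p.symm.U.subtype, ?_, ?_⟩
    · rw [AddSubgroup.card_map_of_injective Subtype.val_injective]
      exact hH
    · rintro _ ⟨x, -, rfl⟩
      exact x.2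
  refine no_sixteen hM φ (fun m n v => p.symm.K.act_mul p.symm.HA (hMc m) (hMc n) v)
    (fun v => p.symm.K.act_one p.symm.HA v) U3 hU3 (p.symm.U_ts.mono hU3le) fun m hm => ?_
  have hmne : (m : G) ≠ 1 := fun e => hm (Subtype.ext e)
  obtain ⟨q, hq, hqm⟩ := p.tw_lift ht m.2.2 (hUL ((p.mem_U_iff m.2.2).2 (hMc m)))
  have hX : S.X (b * m) := hqm ▸ p.X_twist hq
  have pm : S.Pair b (b * m) := ⟨p.hb, hX, fun e => hmne (left_eq_mul.1 e), by rw [mul_assoc b (m : G) b, hMc m]⟩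
  have hT : pm.T = φ m := by
    refine AddMonoidHom.ext fun v => ?_
    show p.symm.K.act (b * m) v = p.symm.K.act m v
    rw [p.symm.K.act_mul p.symm.HA rfl (hMc m), p.symm.K.act_mem p.symm.HA (S.self_mem p.hb)]
  rw [← hT]
  refine ⟨pm.invol, pm.fix_sixteen.1, fun u hu => ?_⟩
  rw [mem_FT, hT]
  refine eqV ?_
  have := p.symm.root_move m.2.2 (hMc m) u (hU3le hu)
  rwa [hD', AddSubgroup.mem_bot] at this

theorem no_elementary : False := by
  classical
  have h1 := p.no_tw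
  have h2 := p.symm.no_tw
  obtain ⟨hF, hLF⟩ := p.fix_sixteen
  obtain ⟨hF', hLF'⟩ := p.symm.fix_sixteen
  have hUF := p.U_eq h1
  have hUF' := p.symm.U_eq h2
  have hD := p.D_bot h1 p.U_ts
  let R : Subgroup G := centralizer ({a} : Set G) ⊓ S.qof b
  have hR : Nat.card R = 32 := by
    show Nat.card ↥(centralizer ({a} : Set G) ⊓ S.qof b) = 32
    rw [p.symm.card_cent, hUF', hF']
  have hRc : ∀ r : R, (r : G) * a = a * r := fun r => mem_centralizer_singleton_iff.1 r.2.1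
  let Sa : R → (V →+ V) := fun r => actHom p.K p.HA (hRc r)
  have hfix : ∀ (r : R), ∀ u ∈ FT p.T, Sa r u = u := fun r u hu => by
    refine eqV ?_
    have := p.root_move r.2.2 (hRc r) u (hUF.symm ▸ hu)
    rwa [hD, AddSubgroup.mem_bot] at this
  have hinvol : ∀ r : R, Invol (Sa r) := fun r => ⟨fun v => p.K.act_q p.HA (hRc r) v, fun v => by
    show p.K.act r (p.K.act r v) = v
    rw [← p.K.act_mul p.HA (hRc r) (hRc r)]
    rcases (S.pre_qof p.hb).extra.sq_cases r.2.2 with e | e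
    · rw [e, p.K.act_one p.HA]
    · exact absurd ⟨r, r.2.2, hRc r, e⟩ p.no_sq⟩
  have hdisp : ∀ (r : R) (v : V), mv (Sa r) v ∈ FT p.T := fun r v => by
    rw [p.invol.FT_eq]
    intro u hu
    rw [(hinvol r).adj, show mv (Sa r) u = 0 by rw [mv_apply, hfix r u (p.invol.LT_le_FT hu), addV], B_zero_right]
  have hadd : ∀ (r s : R) (v : V), mv (Sa (r * s)) v = mv (Sa r) v + mv (Sa s) v := fun r s v => by
    have e1 : Sa (r * s) v = Sa r (Sa s v) := p.K.act_mul p.HA (hRc r) (hRc s) v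
    rw [mv_apply, e1, T_eq (Sa s) v, map_add, hfix r _ (hdisp s v), mv_apply (Sa r)]
    abel
  -- four vectors spanning a complement
  have ext1 : ∀ (H : AddSubgroup V), Nat.card H ≤ 128 → ∃ v, v ∉ H := fun H hH => by
    by_contra hh
    push Not at hh
    have := AddSubgroup.card_le_of_le (fun v _ => hh v : (⊤ : AddSubgroup V) ≤ H)
    rw [AddSubgroup.card_top, card_V] at this
    omega
  have grow : ∀ (H : AddSubgroup V) (v : V), Nat.card ↥(H ⊔ AddSubgroup.zmultiples v) ≤ 2 * Nat.card H := by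
    intro H v
    have hsub : ((H ⊔ AddSubgroup.zmultiples v : AddSubgroup V) : Set V) ⊆ (H : Set V) ∪ (fun u => v + u) '' (H : Set V) := by
      intro x hx
      obtain ⟨u, hu, w, hw, rfl⟩ := AddSubgroup.mem_sup.1 hx
      obtain ⟨n, rfl⟩ := AddSubgroup.mem_zmultiples_iff.1 hw
      rcases Int.even_or_odd' n with ⟨k, rfl | rfl⟩
      · left
        rw [mul_comm, mul_zsmul, two_zsmul, addV, smul_zero, add_zero]; exact hu
      · right
        exact ⟨u, hu, by rw [add_zsmul, one_zsmul, mul_comm, mul_zsmul, two_zsmul, addV, smul_zero, zero_add, add_comm]⟩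
    calc Nat.card ↥(H ⊔ AddSubgroup.zmultiples v) = ((H ⊔ AddSubgroup.zmultiples v : AddSubgroup V) : Set V).ncard :=
          Nat.card_coe_set_eq _
      _ ≤ ((H : Set V) ∪ (fun u => v + u) '' (H : Set V)).ncard := Set.ncard_le_ncard hsub
      _ ≤ (H : Set V).ncard + ((fun u => v + u) '' (H : Set V)).ncard := Set.ncard_union_le _ _
      _ ≤ (H : Set V).ncard + (H : Set V).ncard := Nat.add_le_add_left Set.ncard_image_le _
      _ = 2 * Nat.card H := by rw [← Nat.card_coe_set_eq, two_mul]; rfl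
  obtain ⟨v1, hv1⟩ := ext1 (FT p.T) (by omega)
  set H1 := FT p.T ⊔ AddSubgroup.zmultiples v1 with hH1
  have c1 : Nat.card H1 ≤ 32 := (grow _ _).trans (by omega)
  obtain ⟨v2, hv2⟩ := ext1 H1 (by omega)
  set H2 := H1 ⊔ AddSubgroup.zmultiples v2 with hH2
  have c2 : Nat.card H2 ≤ 64 := (grow _ _).trans (by omega)
  obtain ⟨v3, hv3⟩ := ext1 H2 (by omega)
  set H3 := H2 ⊔ AddSubgroup.zmultiples v3 with hH3
  have c3 : Nat.card H3 ≤ 128 := (grow _ _).trans (by omega)
  obtain ⟨v4, hv4⟩ := ext1 H3 c3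
  let vs : Fin 4 → V := ![v1, v2, v3, v4]
  have indep : ∀ c : Fin 4 → ZMod 2, c 0 • v1 + c 1 • v2 + c 2 • v3 + c 3 • v4 ∈ FT p.T → c = 0 := by
    intro c hc
    have m1 : ∀ t : ZMod 2, t • v1 ∈ H1 := fun t => smul_mem_sub _ _ (AddSubgroup.mem_sup_right (AddSubgroup.mem_zmultiples v1))
    have m2 : ∀ t : ZMod 2, t • v2 ∈ H2 := fun t => smul_mem_sub _ _ (AddSubgroup.mem_sup_right (AddSubgroup.mem_zmultiples v2))
    have m3 : ∀ t : ZMod 2, t • v3 ∈ H3 := fun t => smul_mem_sub _ _ (AddSubgroup.mem_sup_right (AddSubgroup.mem_zmultiples v3))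
    have l01 : FT p.T ≤ H1 := le_sup_left
    have l12 : H1 ≤ H2 := le_sup_left
    have l23 : H2 ≤ H3 := le_sup_left
    have h3 : c 3 = 0 := by
      refine (zcases _).resolve_right fun e => hv4 ?_
      rw [e, one_smul] at hc
      exact ((add_mem_cancel_left (add_mem (add_mem (l23 (l12 (m1 _))) (l23 (m2 _))) (m3 _))).1 (l23 (l12 (l01 hc))))
    have h2' : c 2 = 0 := by
      refine (zcases _).resolve_right fun e => hv3 ?_
      rw [h3, zero_smul, add_zero, e, one_smul] at hc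
      exact ((add_mem_cancel_left (add_mem (l12 (m1 _)) (m2 _))).1 (l12 (l01 hc)))
    have h1' : c 1 = 0 := by
      refine (zcases _).resolve_right fun e => hv2 ?_
      rw [h3, h2', zero_smul, zero_smul, add_zero, add_zero, e, one_smul] at hc
      exact ((add_mem_cancel_left (m1 _)).1 (l01 hc))
    have h0 : c 0 = 0 := by
      refine (zcases _).resolve_right fun e => hv1 ?_
      rw [h3, h2', h1', zero_smul, zero_smul, zero_smul, add_zero, add_zero, add_zero, e, one_smul] at hc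
      exact hc
    funext i
    fin_cases i <;> simp [h0, h1', h2', h3]
  have span : ∀ v : V, ∃ c : Fin 4 → ZMod 2, v + (c 0 • v1 + c 1 • v2 + c 2 • v3 + c 3 • v4) ∈ FT p.T := by
    let f : ↥(FT p.T) × (Fin 4 → ZMod 2) → V := fun x =>
      (x.1 : V) + (x.2 0 • v1 + x.2 1 • v2 + x.2 2 • v3 + x.2 3 • v4)
    have hf : Function.Injective f := by
      rintro ⟨x, c⟩ ⟨y, d⟩ e
      simp only [f] at e
      have hz : (c + d) 0 • v1 + (c + d) 1 • v2 + (c + d) 2 • v3 + (c + d) 3 • v4 = (x : V) + y := by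
        simp only [Pi.add_apply, add_smul]
        calc c 0 • v1 + d 0 • v1 + (c 1 • v2 + d 1 • v2) + (c 2 • v3 + d 2 • v3) + (c 3 • v4 + d 3 • v4) =
            ((x : V) + (c 0 • v1 + c 1 • v2 + c 2 • v3 + c 3 • v4)) + ((y : V) + (d 0 • v1 + d 1 • v2 + d 2 • v3 + d 3 • v4)) + ((x : V) + y) := by
              rw [show ∀ P R : V, ((x : V) + P) + ((y : V) + R) + ((x : V) + y) = P + R + ((x : V) + x) + ((y : V) + y) from fun P R => by abel,
                addV, addV, add_zero, add_zero]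
              abel
          _ = (x : V) + y := by
              have : (x : V) + (c 0 • v1 + c 1 • v2 + c 2 • v3 + c 3 • v4) = (y : V) + (d 0 • v1 + d 1 • v2 + d 2 • v3 + d 3 • v4) := by
                simpa [add_assoc] using e
              rw [this, addV, zero_add]
      have hcd := indep (c + d) (hz ▸ add_mem x.2 y.2)
      have hcd' : c = d := funext fun i => eq_of_add _ _ (congrFun hcd i)
      subst hcd'
      exact Prod.ext (Subtype.ext (add_right_cancel e)) rfl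
    have hb : Function.Bijective f := (Nat.bijective_iff_injective_and_card f).2
      ⟨hf, by rw [Nat.card_prod, hF, card_V]; simp⟩
    intro v
    obtain ⟨⟨x, c⟩, hx⟩ := hb.2 v
    refine ⟨c, ?_⟩
    rw [← hx]
    show (x : V) + _ + _ ∈ _
    rw [add_assoc, addV, add_zero]
    exact x.2
  -- the coefficients
  let g : R → A6 := fun r =>
    ((B (mv (Sa r) v1) v2, B (mv (Sa r) v1) v3, B (mv (Sa r) v1) v4),
      (B (mv (Sa r) v2) v3, B (mv (Sa r) v2) v4, B (mv (Sa r) v3) v4))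
  have gadd : ∀ r s : R, g (r * s) = g r + g s := fun r s => by
    simp only [g, hadd, B_add_left]; rfl
  have gone : ∀ r : R, Nat.card (FT (Sa r)) = 16 → pf (g r) = 1 := by
    intro r hr
    refine eq_one fun h0 => ?_
    obtain ⟨c, hc, e0, e1, e2, e3⟩ := pf_kernel _ h0
    have heq : FT p.T = FT (Sa r) :=
      AddSubgroup.eq_of_le_of_card_ge (fun u hu => mem_FT.2 (hfix r u hu)) (by rw [hr, hF])
    refine hc (indep c (heq ▸ ?_))
    show mv (Sa r) _ = 0
    set w := c 0 • v1 + c 1 • v2 + c 2 • v3 + c 3 • v4 with hw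
    refine eq_zero_of_B fun v => ?_
    obtain ⟨d, hd⟩ := span v
    have k0 : ∀ u ∈ FT p.T, B u (mv (Sa r) w) = 0 := fun u hu => by
      rw [B_comm, (hinvol r).adj, show mv (Sa r) u = 0 by rw [mv_apply, hfix r u hu, addV], B_zero_right]
    have bs : ∀ (t : ZMod 2) (x y : V), B (t • x) y = t * B x y := fun t x y => by
      rcases zcases t with rfl | rfl <;> simp [B_zero_left]
    have bs' : ∀ (t : ZMod 2) (x y : V), B x (t • y) = t * B x y := fun t x y => by
      rcases zcases t with rfl | rfl <;> simp [B_zero_right]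
    have hms : ∀ (t : ZMod 2) (x : V), mv (Sa r) (t • x) = t • mv (Sa r) x := fun t x => by
      rcases zcases t with rfl | rfl <;> simp
    have sd : ∀ x, B x (mv (Sa r) x) = 0 := fun x =>
      (hinvol r).self_orth ((hUF ▸ p.U_ts) _ (hdisp r x))
    have sym : ∀ x y, B x (mv (Sa r) y) = B (mv (Sa r) x) y := fun x y => ((hinvol r).adj x y).symm
    have alt : ∀ x y, B (mv (Sa r) x) y = B (mv (Sa r) y) x := fun x y => by rw [(hinvol r).adj, B_comm]
    have hv := k0 _ hd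
    rw [B_add_left] at hv
    refine (eq_of_add _ _ hv).trans ?_
    simp only [g] at e0 e1 e2 e3
    have hvi : B v1 (mv (Sa r) w) = 0 ∧ B v2 (mv (Sa r) w) = 0 ∧ B v3 (mv (Sa r) w) = 0 ∧ B v4 (mv (Sa r) w) = 0 := by
      refine ⟨?_, ?_, ?_, ?_⟩ <;> rw [hw] <;> simp only [map_add, hms, B_add_right, bs', sd, mul_zero, zero_add, add_zero]
      · simp only [sym]; exact e0
      · simp only [sym]; rw [alt v2 v1]; exact e1
      · simp only [sym]; rw [alt v3 v1, alt v3 v2]; exact e2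
      · simp only [sym]; rw [alt v4 v1, alt v4 v2, alt v4 v3]; exact e3
    simp only [B_add_left, bs, hvi.1, hvi.2.1, hvi.2.2.1, hvi.2.2.2, mul_zero, add_zero]
  -- the involution itself
  have hbR : b ∈ R := ⟨mem_centralizer_singleton_iff.2 p.comm.symm, S.self_mem p.hb⟩
  set bR : R := ⟨b, hbR⟩ with hbRdef
  have hgb : pf (g bR) = 1 := gone bR hF
  -- twisting elements on the other side
  have tw_ok : ∀ q ∈ S.qof b, ∃ hm : a * q⁻¹ * a * q ∈ R,
      p.symm.K.vec (a * q⁻¹ * a * q) = mv p.symm.T (p.symm.K.vec q) ∧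
        (mv p.symm.T (p.symm.K.vec q) ≠ 0 → pf (g ⟨_, hm⟩) = 1) := by
    intro q hq
    obtain ⟨hm, -, hvec, -⟩ := p.symm.twist hq
    have hcm : a * q⁻¹ * a * q * a = a * (a * q⁻¹ * a * q) :=
      (p.symm.mem_U_iff hm).1 (by rw [hvec, hUF', ← hLF']; exact mv_mem_LT _ _)
    refine ⟨⟨mem_centralizer_singleton_iff.2 hcm, hm⟩, hvec, fun hne => gone _ ?_⟩
    have hne1 : a * q⁻¹ * a * q ≠ 1 := fun e => hne (by rw [← hvec, e, p.symm.K.vec_one])
    have pm : S.Pair a (a * (a * q⁻¹ * a * q)) := ⟨p.ha, p.symm.X_twist hq, fun e => hne1 (left_eq_mul.1 e), by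
      rw [mul_assoc a (a * q⁻¹ * a * q) a, hcm]⟩
    have hT : pm.T = Sa ⟨_, ⟨mem_centralizer_singleton_iff.2 hcm, hm⟩⟩ := by
      refine AddMonoidHom.ext fun v => ?_
      show p.K.act (a * (a * q⁻¹ * a * q)) v = p.K.act (a * q⁻¹ * a * q) v
      rw [p.K.act_mul p.HA rfl hcm, p.K.act_mem p.HA (S.self_mem p.ha)]
    rw [← hT]
    exact pm.fix_sixteen.1
  -- the part orthogonal to `b`
  let χ : R →* Multiplicative (ZMod 2) :=
    MonoidHom.mk' (fun r => Multiplicative.ofAdd (bpf (g r) (g bR))) fun r s => by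
      rw [gadd, bpf_add_left, ofAdd_add]
  have hχ : ∀ r, r ∈ χ.ker ↔ bpf (g r) (g bR) = 0 := fun r => by
    rw [MonoidHom.mem_ker]; exact Multiplicative.ofAdd.injective.eq_iff (b := (0 : ZMod 2))
  let H : Subgroup G := χ.ker.map R.subtype
  have hHR : H ≤ S.qof b := by rintro _ ⟨r, -, rfl⟩; exact r.2.2
  have hbH : b ∈ H := ⟨bR, (hχ _).2 (bpf_self _), rfl⟩
  have hH : 16 ≤ Nat.card H := by
    rw [Subgroup.card_map_of_injective Subtype.val_injective]
    have e := Subgroup.card_eq_card_quotient_mul_card_subgroup χ.ker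
    rw [hR, Nat.card_congr (QuotientGroup.quotientKerEquivRange χ).toEquiv] at e
    have h2' : Nat.card χ.range ≤ 2 := by
      have := Subgroup.card_le_card_group χ.range
      simpa [Nat.card_eq_fintype_card] using this
    nlinarith
  have himg := p.symm.card_img hHR hbH
  have big : ∀ s : Finset V, s.card < 8 → ∃ u ∈ img p.symm.K H, u ∉ s := fun s hs => by
    by_contra hh
    push Not at hh
    have := Finset.card_le_card (s := (img p.symm.K H : Set V).toFinset) (t := s) fun x hx => hh x (Set.mem_toFinset.1 hx)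
    rw [Set.toFinset_card, ← Nat.card_eq_fintype_card] at this
    simp only [SetLike.coe_sort_coe] at this
    omega
  obtain ⟨u1, hu1, n1⟩ := big {0} (by simp)
  simp only [Finset.mem_singleton] at n1
  obtain ⟨u2, hu2, n2⟩ := big {0, u1} (by have := Finset.card_le_two (a := (0 : V)) (b := u1); omega)
  simp only [Finset.mem_insert, Finset.mem_singleton, not_or] at n2
  obtain ⟨u3, hu3, n3⟩ := big {0, u1, u2, u1 + u2} (by
    have := Finset.card_le_four (a := (0 : V)) (b := u1) (c := u2) (d := u1 + u2); omega)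
  simp only [Finset.mem_insert, Finset.mem_singleton, not_or] at n3
  -- the rule
  have rule : ∀ {q q' : G} (hq : q ∈ S.qof b) (hq' : q' ∈ S.qof b),
      mv p.symm.T (p.symm.K.vec q) ≠ 0 → mv p.symm.T (p.symm.K.vec q') ≠ 0 →
      mv p.symm.T (p.symm.K.vec q) + mv p.symm.T (p.symm.K.vec q') ≠ 0 →
      ∀ (h : a * q⁻¹ * a * q ∈ R) (h' : a * q'⁻¹ * a * q' ∈ R) (h'' : a * (q * q')⁻¹ * a * (q * q') ∈ R),
      bpf (g ⟨_, h⟩) (g bR) = 0 → bpf (g ⟨_, h'⟩) (g bR) = 0 →
      bpf (g ⟨_, h⟩) (g ⟨_, h'⟩) = 1 + B (mv p.symm.T (p.symm.K.vec q)) (p.symm.K.vec q') ∧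
      bpf (g ⟨_, h''⟩) (g bR) = 0 ∧
      ∀ k, bpf k (g bR) = 0 → bpf k (g ⟨_, h''⟩) = bpf k (g ⟨_, h⟩) + bpf k (g ⟨_, h'⟩) := by
    intro q q' hq hq' z1 z2 z3 h h' h'' o o'
    obtain ⟨hm, hv, hp⟩ := tw_ok q hq
    obtain ⟨hm', hv', hp'⟩ := tw_ok q' hq'
    obtain ⟨hm'', -, hp''⟩ := tw_ok (q * q') (mul_mem hq hq')
    have hz : mv p.symm.T (p.symm.K.vec (q * q')) ≠ 0 := by rwa [p.symm.K.mul hq hq', map_add]
    have E1 := hp z1
    have E2 := hp' z2
    have E3 := hp'' hz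
    set n := a * q⁻¹ * a * q with hn
    set n' := a * q'⁻¹ * a * q' with hn'
    have hprod : a * (q * q')⁻¹ * a * (q * q') = n' * (q'⁻¹ * n * q') := by
      rw [hn, hn', show a * q'⁻¹ * a * q' * (q'⁻¹ * (a * q⁻¹ * a * q) * q') =
        a * q'⁻¹ * (a * a) * q⁻¹ * a * (q * q') by group, S.X_sq p.ha, mul_inv_rev]
      group
    have hq'i : q'⁻¹ ∈ S.qof b := (S.qof b).inv_mem hq'
    have hc := p.symm.K.conj h.2 hq'i
    rw [p.symm.K.vec_inv hq', inv_inv, hv] at hc
    by_cases hB : B (mv p.symm.T (p.symm.K.vec q)) (p.symm.K.vec q') = 0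
    · rw [if_pos hB] at hc
      have he : (⟨_, h''⟩ : R) = ⟨n', h'⟩ * ⟨n, h⟩ := Subtype.ext (hprod.trans (by rw [hc]; rfl))
      have hge : g ⟨_, h''⟩ = g ⟨n', h'⟩ + g ⟨n, h⟩ := by rw [he, gadd]
      refine ⟨?_, by rw [hge, bpf_add_left, o, o', add_zero], fun k _ => by rw [hge, bpf_add_right, add_comm]⟩
      rw [hge, pf_add, E1, E2] at E3
      rw [hB, add_zero]
      have sym : bpf (g ⟨n', h'⟩) (g ⟨n, h⟩) = bpf (g ⟨n, h⟩) (g ⟨n', h'⟩) := by simp only [bpf]; ring
      rw [sym, show (1 : ZMod 2) + 1 = 0 from rfl, zero_add] at E3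
      exact E3
    · rw [if_neg hB] at hc
      have he : (⟨_, h''⟩ : R) = ⟨n', h'⟩ * (bR * ⟨n, h⟩) := Subtype.ext (hprod.trans (by rw [hc]; rfl))
      have hge : g ⟨_, h''⟩ = g ⟨n', h'⟩ + (g bR + g ⟨n, h⟩) := by rw [he, gadd, gadd]
      refine ⟨?_, by rw [hge, bpf_add_left, bpf_add_left, o, o', bpf_self]; rfl,
        fun k hk => by rw [hge, bpf_add_right, bpf_add_right, hk, zero_add, add_comm]⟩
      rw [hge, pf_add, pf_add, E1, E2, hgb, bpf_add_right, o'] at E3
      have sym : ∀ x y : A6, bpf x y = bpf y x := fun x y => by simp only [bpf]; ring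
      rw [sym (g bR), o, sym (g ⟨n', h'⟩)] at E3
      rw [eq_one hB]
      linear_combination E3 - 3 * CharTwo.add_self_eq_zero (1 : ZMod 2) + CharTwo.add_self_eq_zero (1 : ZMod 2)
  -- representatives
  have rep : ∀ u ∈ img p.symm.K H, ∃ q ∈ S.qof b, mv p.symm.T (p.symm.K.vec q) = u ∧
      ∃ h : a * q⁻¹ * a * q ∈ R, bpf (g ⟨_, h⟩) (g bR) = 0 := by
    rintro u ⟨x, ⟨⟨r, hr, rfl⟩, hxQ⟩, rfl⟩
    have hU' : p.symm.K.vec (r : G) ∈ LT p.symm.T := by
      rw [hLF', ← hUF']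
      exact (p.symm.mem_U_iff r.2.2).2 (hRc r)
    obtain ⟨v, hv⟩ := hU'
    obtain ⟨q, hq, rfl⟩ := p.symm.K.surj v
    obtain ⟨hm, hvec, -⟩ := tw_ok q hq
    refine ⟨q, hq, hv, hm, ?_⟩
    rcases p.symm.K.eq_or p.symm.HA hm.2 r.2.2 (hvec.trans hv) with e | e
    · rw [show (⟨_, hm⟩ : R) = r from Subtype.ext e]
      exact (hχ r).1 hr
    · rw [show (⟨_, hm⟩ : R) = bR * r from Subtype.ext e, gadd, bpf_add_left, bpf_self, (hχ r).1 hr, add_zero]
  obtain ⟨q1, hq1, e1, k1, o1⟩ := rep u1 hu1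
  obtain ⟨q2, hq2, e2, k2, o2⟩ := rep u2 hu2
  obtain ⟨q3, hq3, e3, k3, o3⟩ := rep u3 hu3
  obtain ⟨k23, -, -⟩ := tw_ok (q2 * q3) (mul_mem hq2 hq3)
  obtain ⟨k12, -, -⟩ := tw_ok (q1 * q2) (mul_mem hq1 hq2)
  obtain ⟨k13, -, -⟩ := tw_ok (q1 * q3) (mul_mem hq1 hq3)
  obtain ⟨k123, -, -⟩ := tw_ok (q1 * (q2 * q3)) (mul_mem hq1 (mul_mem hq2 hq3))
  have d12 : u1 + u2 ≠ 0 := fun e => n2.2 (eqV e).symm
  have d13 : u1 + u3 ≠ 0 := fun e => n3.2.1 (eqV e).symm
  have d23 : u2 + u3 ≠ 0 := fun e => n3.2.2.1 (eqV e).symm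
  have d123 : u1 + (u2 + u3) ≠ 0 := fun e => n3.2.2.2 (by
    have := eqV e
    rw [this, add_comm (u2 + u3), ← add_assoc, addV, zero_add])
  obtain ⟨A, -, -⟩ := rule hq1 hq2 (e1 ▸ n1) (e2 ▸ n2.1) (by rw [e1, e2]; exact d12) k1 k2 k12 o1 o2
  obtain ⟨B', -, -⟩ := rule hq1 hq3 (e1 ▸ n1) (e3 ▸ n3.1) (by rw [e1, e3]; exact d13) k1 k3 k13 o1 o3
  obtain ⟨-, o23, L⟩ := rule hq2 hq3 (e2 ▸ n2.1) (e3 ▸ n3.1) (by rw [e2, e3]; exact d23) k2 k3 k23 o2 o3
  obtain ⟨C, -, -⟩ := rule hq1 (mul_mem hq2 hq3) (e1 ▸ n1) (by rw [p.symm.K.mul hq2 hq3, map_add, e2, e3]; exact d23)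
    (by rw [p.symm.K.mul hq2 hq3, map_add, e1, e2, e3]; exact d123) k1 k23 k123 o1 o23
  rw [L _ o1, A, B', p.symm.K.mul hq2 hq3, B_add_right] at C
  exact absurd (show (1 : ZMod 2) = 0 by linear_combination C) one_ne_zero

end Std.Pair

end CfsgLib.CoOneUnique.Fus
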